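import Cfsg.Agent.H280.HNF.Six
import Cfsg.Agent.H653.HNE.Exact

/-!
# Powers of the classes 6B, 6C, 12B, 12C of HN (helper280)

* `cube12B`, `cube12C` : the cubes of the elements of 12B (12C) are conjugate to `R4A` (`R4C`);
* `real6B`, `real6C`, `real12B`, `real12C` : `g ^ m ~ g` for `m` prime to the order.
-/

set_option autoImplicit false
set_option maxRecDepth 100000

namespace Cfsg.Agent.H280.HNF

open Subgroup Cfsg
open Cfsg.Agent
open Cfsg.Agent.CpAutHN.Alt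
open Cfsg.Agent.CpAutHN.Tr
open Cfsg.Agent.CpAutHN.LqFacts
open Cfsg.Agent.CpAutHN.PPFacts
open Cfsg.Agent.CpAutHN.Pairs
open Cfsg.Agent.KFacts.HN (PP mem_PP ρ φA φB W0_ne A5 RS conj_RS r_mem_PP r_conj)
open Cfsg.Agent.HN.XWords (W0 W0_sq)
open Cfsg.Agent.H653.HNE (R4A R4C conj_four mem_RS_iff two_I R4A_sq ι_mem ltn evw_ltn ok8_ltn evw_mem_RS Q_eq eqQ evw_app evw77)

section
open Cfsg.Agent.HN Cfsg.Agent.HN.Pres Cfsg.Agent.HN.P1408 Cfsg.Agent.HN.H0Basic Cfsg.Agent.HN.XMat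
open Cfsg.Agent.HN.XStruct Cfsg.Agent.HN.XWords Cfsg.Agent.HN.XQuot Cfsg.Agent.HN.XInst
open Cfsg.Agent.KFacts.HN

theorem r56_eq : r Q 56 = evw Q (ltn 56 8) := (evw_ltn 56 8).symm

theorem r56_sq : r Q 56 * r Q 56 = W0 := by
  rw [r56_eq, ← evw_app, ← evw77]
  exact Q_eq (by decide +kernel)

theorem r56_RS : r Q 56 ∈ RS := by
  rw [r56_eq]
  exact evw_mem_RS (ok8_ltn 56 8 le_rfl)

theorem app56 : app (mw (aw 0 ++ Cfsg.Agent.KFacts.HN.bw 0)) 56 = 56 := by decide +kernel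

/-- an element of order 4 of `R` commuting with `x`, second type -/
theorem r56_comm {x : PP} (h3 : orderOf x = 3) (hx : ρ x = φA c0 * φB c0) : r Q 56 * (x : Cfsg.Spor.HN) = x * r Q 56 := by
  obtain ⟨d, hd⟩ := Cfsg.Agent.KFacts.HN.r_conj x.2 (acts_of_ρ (ρ_B hx)) 56
  rw [app56] at hd
  cases d
  · have h1 : (x : Cfsg.Spor.HN)⁻¹ * r Q 56 * x = r Q 56 := by
      rw [hd]; exact mul_one _
    calc r Q 56 * (x : Cfsg.Spor.HN) = x * ((x : Cfsg.Spor.HN)⁻¹ * r Q 56 * x) := by group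
      _ = x * r Q 56 := by rw [h1]
  · exfalso
    have h1 : (x : Cfsg.Spor.HN)⁻¹ * r Q 56 * x = r Q 56 * W0 := hd
    have hw := mem_PP.1 x.2
    have hx3 : (x : Cfsg.Spor.HN) * x * x = 1 := by
      have h6 : x ^ 3 = 1 := by rw [← h3, pow_orderOf_eq_one]
      rw [pow_succ, pow_two] at h6
      exact congrArg Subtype.val h6
    have hx3' : (x : Cfsg.Spor.HN)⁻¹ * (x : Cfsg.Spor.HN)⁻¹ * (x : Cfsg.Spor.HN)⁻¹ = 1 := by
      rw [← mul_inv_rev, ← mul_inv_rev, ← mul_assoc, hx3, inv_one]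
    have hW : (x : Cfsg.Spor.HN)⁻¹ * W0 * x = W0 := by rw [mul_assoc, ← hw, inv_mul_cancel_left]
    have h2 : (x : Cfsg.Spor.HN)⁻¹ * (r Q 56 * W0) * x = r Q 56 := by
      calc (x : Cfsg.Spor.HN)⁻¹ * (r Q 56 * W0) * x = ((x : Cfsg.Spor.HN)⁻¹ * r Q 56 * x) *
            ((x : Cfsg.Spor.HN)⁻¹ * W0 * x) := by group
        _ = r Q 56 := by rw [h1, hW, mul_assoc, W0_sq, mul_one]
    have h4 : r Q 56 = r Q 56 * W0 := by
      calc r Q 56 = ((x : Cfsg.Spor.HN)⁻¹ * (x : Cfsg.Spor.HN)⁻¹ * (x : Cfsg.Spor.HN)⁻¹) * r Q 56 *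
            ((x : Cfsg.Spor.HN) * x * x) := by rw [hx3, hx3', one_mul, mul_one]
        _ = (x : Cfsg.Spor.HN)⁻¹ * ((x : Cfsg.Spor.HN)⁻¹ * ((x : Cfsg.Spor.HN)⁻¹ * r Q 56 * x) * x) * x := by
          group
        _ = r Q 56 * W0 := by rw [h1, h2, h1]
    exact W0_ne (mul_left_cancel (h4.symm.trans (mul_one _).symm))

end

/-- **the roots of the second type are in 4A** -/
theorem isConj_I1 : IsConj R4A I1 := by
  obtain ⟨g, hg, hgs, hρ⟩ := t2_x1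
  have h3 : orderOf (⟨g * X1 * g⁻¹, hg⟩ : PP) = 3 := order_sub hg (order_conj order_X1 g)
  have hc := r56_comm h3 hρ
  have hsq := r56_sq
  have hRS := r56_RS
  generalize Cfsg.Agent.HN.XStruct.r Cfsg.Agent.HN.XWords.Q 56 = v at hc hsq hRS
  obtain ⟨c, -, hcv⟩ := two_I hRS (by rw [pow_two, hsq])
  have h1 : g⁻¹ * v * g * (g⁻¹ * v * g) = S1 := by
    calc g⁻¹ * v * g * (g⁻¹ * v * g) = g⁻¹ * (v * v) * g := by group
      _ = S1 := by rw [hsq, ← hgs]; group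
  have h2 : g⁻¹ * v * g * X1 = X1 * (g⁻¹ * v * g) := by
    change v * (g * X1 * g⁻¹) = g * X1 * g⁻¹ * v at hc
    calc g⁻¹ * v * g * X1 = g⁻¹ * (v * (g * X1 * g⁻¹)) * g := by group
      _ = g⁻¹ * (g * X1 * g⁻¹ * v) * g := by rw [hc]
      _ = _ := by group
  obtain ⟨d, -, hd⟩ := T2.root_conj main order_X1 order_X1 t2_x1 t2_x1 h2 I1X1 h1 I1_sq (pow_four_of h1 S1_sq) I1_four
  refine isConj_iff.2 ⟨d * g⁻¹ * c, ?_⟩
  calc d * g⁻¹ * c * R4A * (d * g⁻¹ * c)⁻¹ = d * (g⁻¹ * (c * R4A * c⁻¹) * g) * d⁻¹ := by group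
    _ = I1 := by rw [hcv, hd]

/-- **the roots of the first type are in 4C** -/
theorem T1.isConj_root {x s i : G} (h3 : orderOf x = 3) (h : T1 x s) (hix : i * x = x * i) (hi : i * i = s) :
    IsConj R4C i := by
  obtain ⟨g, hg, hgs, hρ⟩ := h
  have hii : g * i * g⁻¹ * (g * i * g⁻¹) = W0 := by rw [← hgs, ← hi]; group
  have hj : g * i * g⁻¹ ∈ PP := by
    rw [mem_PP, ← hii]; group
  rcases conj_four (x := i) (isConj_iff.2 ⟨g⁻¹, by rw [← hii, pow_two]; group⟩) with h1 | h1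
  · exfalso
    obtain ⟨c, hc⟩ := isConj_iff.1 h1
    have hcP : g * c ∈ PP := by
      have e1 : g * i * g⁻¹ = g * c * R4A * (g * c)⁻¹ := by rw [← hc]; group
      have e2 : g * c * W0 * (g * c)⁻¹ = W0 := by
        calc g * c * W0 * (g * c)⁻¹ = g * c * (R4A ^ 2) * (g * c)⁻¹ := by rw [R4A_sq]
          _ = (g * c * R4A * (g * c)⁻¹) * (g * c * R4A * (g * c)⁻¹) := by rw [pow_two]; group
          _ = W0 := by rw [← e1, hii]
      rw [mem_PP]
      exact mul_inv_eq_iff_eq_mul.1 e2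
    have h4 : g * i * g⁻¹ ∈ RS := by
      have e1 : g * i * g⁻¹ = g * c * R4A * (g * c)⁻¹ := by rw [← hc]; group
      rw [e1]
      exact conj_RS hcP (ι_mem 17)
    rw [mem_RS_iff hj] at h4
    have hcx : (⟨g * i * g⁻¹, hj⟩ : PP) * ⟨g * x * g⁻¹, hg⟩ = ⟨g * x * g⁻¹, hg⟩ * ⟨g * i * g⁻¹, hj⟩ := by
      apply Subtype.ext
      change g * i * g⁻¹ * (g * x * g⁻¹) = g * x * g⁻¹ * (g * i * g⁻¹)
      calc g * i * g⁻¹ * (g * x * g⁻¹) = g * (i * x) * g⁻¹ := by group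
        _ = g * (x * i) * g⁻¹ := by rw [hix]
        _ = _ := by group
    obtain ⟨b, -, hb1, hb⟩ := image_root hρ hcx (Subtype.ext hii)
    rw [h4] at hb
    exact hb1 (Cfsg.Agent.KFacts.HN.φB_inj (by rw [← hb, map_one]))
  · exact h1

theorem cube_eq {x i : G} (hx : x ^ 3 = 1) (h : i * x = x * i) : (x * i) ^ 3 = i ^ 3 := by
  rw [(show Commute x i from h.symm).mul_pow, hx, one_mul]

theorem cube_sq {i s : G} (hi : i * i = s) (hs : s * s = 1) : i ^ 3 * i ^ 3 = s := by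
  rw [← pow_add, show 3 + 3 = 4 + 2 from rfl, pow_add, pow_four_of hi hs, one_mul, pow_two, hi]

/-- **the cube of 12B is 4A** -/
theorem cube12B {g : G} (h : IsConj (X1 * I1) g) : IsConj R4A (g ^ 3) := by
  have h1 := IsConj.pow_two_three h 3
  rw [cube_eq X1_cube I1X1] at h1
  have hc : I1 ^ 3 * X1 = X1 * I1 ^ 3 := ((show Commute I1 X1 from I1X1).pow_left 3).eq
  have hs := cube_sq I1_sq S1_sq
  obtain ⟨d, -, hd⟩ := T2.root_conj main order_X1 order_X1 t2_x1 t2_x1 I1X1 hc I1_sq hs I1_four (pow_four_of hs S1_sq)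
  exact (isConj_I1.trans (isConj_iff.2 ⟨d, hd⟩)).trans h1

/-- **the cube of 12C is 4C** -/
theorem cube12C {g : G} (h : IsConj (X3 * I3) g) : IsConj R4C (g ^ 3) := by
  have h1 := IsConj.pow_two_three h 3
  rw [cube_eq X3_cube I3X3] at h1
  have hc : I3 ^ 3 * X3 = X3 * I3 ^ 3 := ((show Commute I3 X3 from I3X3).pow_left 3).eq
  exact (T1.isConj_root order_X3 t1_x3 hc (cube_sq I3_sq S3_sq)).trans h1

/-! ### powers -/

theorem pow_coprime_three {y w : G} (hy : orderOf y = 3) (h : IsConj y w) (hw : IsConj w⁻¹ w) {m : ℕ}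
    (hm : m.Coprime 3) : IsConj (y ^ m) w := by
  have h1 : y ^ m = y ^ (m % 3) := by
    rw [← hy]
    exact (pow_mod_orderOf y m).symm
  have h2 : m % 3 = 1 ∨ m % 3 = 2 := by
    have h3 : m % 3 ≠ 0 := by
      intro h0
      have h4 : 3 ∣ Nat.gcd m 3 := Nat.dvd_gcd (Nat.dvd_of_mod_eq_zero h0) (dvd_refl 3)
      rw [hm] at h4
      norm_num at h4
    omega
  rcases h2 with h2 | h2
  · rw [h1, h2, pow_one]
    exact h
  · rw [h1, h2]
    have h3 : y ^ 2 = y⁻¹ := by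
      have h6 : y ^ 3 = 1 := by rw [← hy, pow_orderOf_eq_one]
      rw [eq_inv_iff_mul_eq_one, ← pow_succ]
      exact h6
    rw [h3]
    obtain ⟨c, hc⟩ := isConj_iff.1 h
    exact (isConj_iff.2 ⟨c, by rw [← hc]; group⟩ : IsConj y⁻¹ w⁻¹).trans hw

theorem pow_odd {s : G} (hs : s ^ 2 = 1) {m : ℕ} (hm : m.Coprime 2) : s ^ m = s := by
  have h1 : m % 2 = 1 := by
    rcases Nat.mod_two_eq_zero_or_one m with h | h
    · exfalso
      have h4 : 2 ∣ Nat.gcd m 2 := Nat.dvd_gcd (Nat.dvd_of_mod_eq_zero h) (dvd_refl 2)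
      rw [hm] at h4
      norm_num at h4
    · exact h
  rw [← Nat.div_add_mod m 2, h1, pow_add, pow_mul, hs, one_pow, one_mul, pow_one]

theorem real_six {g w : G} (hg : orderOf g = 6) (hW : IsConj (g ^ 3) W0) (h4 : IsConj (g ^ 4) w)
    (hw : IsConj w⁻¹ w) {m : ℕ} (hm : m.Coprime 6) :
    orderOf (g ^ m) = 6 ∧ IsConj ((g ^ m) ^ 3) W0 ∧ IsConj ((g ^ m) ^ 4) w := by
  have hm2 : m.Coprime 2 := Nat.Coprime.coprime_dvd_right (by norm_num) hm
  have hm3 : m.Coprime 3 := Nat.Coprime.coprime_dvd_right (by norm_num) hm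
  refine ⟨?_, ?_, ?_⟩
  · rw [← hg]
    exact Nat.Coprime.orderOf_pow (by rw [hg]; exact hm.symm)
  · rw [← pow_mul, mul_comm, pow_mul, pow_odd _ hm2]
    · exact hW
    · rw [← pow_mul, show 3 * 2 = 6 from rfl, ← hg, pow_orderOf_eq_one]
  · rw [← pow_mul, mul_comm, pow_mul]
    refine pow_coprime_three ?_ h4 hw hm3
    rw [orderOf_pow, hg]
    norm_num

theorem real_twelve {g w : G} (hg : orderOf g = 12) (hW : IsConj (g ^ 6) W0) (h4 : IsConj (g ^ 4) w)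
    (hw : IsConj w⁻¹ w) {m : ℕ} (hm : m.Coprime 12) :
    orderOf (g ^ m) = 12 ∧ IsConj ((g ^ m) ^ 6) W0 ∧ IsConj ((g ^ m) ^ 4) w := by
  have hm2 : m.Coprime 2 := Nat.Coprime.coprime_dvd_right (by norm_num) hm
  have hm3 : m.Coprime 3 := Nat.Coprime.coprime_dvd_right (by norm_num) hm
  refine ⟨?_, ?_, ?_⟩
  · rw [← hg]
    exact Nat.Coprime.orderOf_pow (by rw [hg]; exact hm.symm)
  · rw [← pow_mul, mul_comm, pow_mul, pow_odd _ hm2]
    · exact hW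
    · rw [← pow_mul, show 6 * 2 = 12 from rfl, ← hg, pow_orderOf_eq_one]
  · rw [← pow_mul, mul_comm, pow_mul]
    refine pow_coprime_three ?_ h4 hw hm3
    rw [orderOf_pow, hg]
    norm_num

theorem real6B {g : G} (h : IsConj (X1 * S1) g) {m : ℕ} (hm : m.Coprime 6) : IsConj (X1 * S1) (g ^ m) := by
  obtain ⟨h1, h2, h3⟩ := (iff6B g).2 h
  exact (iff6B _).1 (real_six h1 h2 h3 inv_X1 hm)

theorem real6C {g : G} (h : IsConj (X3 * S3) g) {m : ℕ} (hm : m.Coprime 6) : IsConj (X3 * S3) (g ^ m) := by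
  obtain ⟨h1, h2, h3⟩ := (iff6C g).2 h
  exact (iff6C _).1 (real_six h1 h2 h3 inv_X3 hm)

theorem real12B {g : G} (h : IsConj (X1 * I1) g) {m : ℕ} (hm : m.Coprime 12) : IsConj (X1 * I1) (g ^ m) := by
  obtain ⟨h1, h2, h3⟩ := (iff12B g).2 h
  exact (iff12B _).1 (real_twelve h1 h2 h3 inv_X1 hm)

theorem real12C {g : G} (h : IsConj (X3 * I3) g) {m : ℕ} (hm : m.Coprime 12) : IsConj (X3 * I3) (g ^ m) := by
  obtain ⟨h1, h2, h3⟩ := (iff12C g).2 h
  exact (iff12C _).1 (real_twelve h1 h2 h3 inv_X3 hm)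

end Cfsg.Agent.H280.HNF
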