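import Cfsg.Agent.H678.HNT.Nine

/-!
# Square roots of the involutions of type `2^4` in `A₉` (helper280)

* `root_conj` : the square roots of `s9` are conjugate to `r9`;
* `card_cent_s`, `card_cent_r` : the centralizers have order 192 and 16;
* `not_eight` : there is no element of order 8.
-/

set_option autoImplicit false

namespace Cfsg.Agent.H280.HNF.NineB

open Cfsg Subgroup Equiv.Perm
open Cfsg.Agent.CpAutHN.NineAlt
open Cfsg.Agent.H678.HNT.Nine

/-- `(0 1 2 3)(4 5 7 8)` -/
def pr : Equiv.Perm (Fin 9) := cy9 [0, 1, 2, 3] * cy9 [4, 5, 7, 8]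

theorem pr_mem : pr ∈ alternatingGroup (Fin 9) := by rw [mem_alternatingGroup]; decide +kernel

/-- a square root of `s9` -/
def r9 : A9 := ⟨pr, pr_mem⟩

theorem r9_sq : r9 * r9 = s9 := Subtype.ext (by change pr * pr = ps; decide +kernel)

theorem cycle_pr : pr.cycleType = {4, 4} := by decide +kernel

theorem cyc_all {δ : A9} (h : δ * δ = s9) : (δ : Equiv.Perm (Fin 9)).cycleType = {4, 4} := by
  set d : Equiv.Perm (Fin 9) := (δ : Equiv.Perm (Fin 9)) with hd
  have hdd : d * d = ps := congrArg Subtype.val h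
  have h4 : d ^ 4 = 1 := by
    have h1 : d ^ 4 = (d * d) * (d * d) := by
      rw [show (4 : ℕ) = 1 + 1 + 1 + 1 from rfl, pow_add, pow_add, pow_add, pow_one, mul_assoc (d * d)]
    rw [h1, hdd]
    decide +kernel
  have hne : d ^ 2 ≠ 1 := by
    rw [pow_two, hdd]
    decide +kernel
  have ho : orderOf d ∣ 4 := orderOf_dvd_of_pow_eq_one h4
  -- the parts
  have hpart : ∀ n ∈ d.cycleType, n = 2 ∨ n = 4 := by
    intro n hn
    have h1 : n ∣ 4 := (dvd_of_mem_cycleType hn).trans ho
    have h2 := two_le_of_mem_cycleType hn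
    have h3 := Nat.le_of_dvd (by norm_num) h1
    interval_cases n
    · exact Or.inl rfl
    · omega
    · exact Or.inr rfl
  have hsum := sum_cycleType_le d
  rw [Fintype.card_fin] at hsum
  -- the support
  have hsupp : 8 ≤ d.cycleType.sum := by
    rw [sum_cycleType]
    have h1 : ps.support ⊆ d.support := by
      rw [← hdd, ← pow_two]
      exact support_pow_le d 2
    have h2 : ps.support.card = 8 := by decide +kernel
    rw [← h2]
    exact Finset.card_le_card h1
  have hsign := sign_of_cycleType d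
  have hs1 : sign d = 1 := mem_alternatingGroup.1 δ.2
  rw [hs1] at hsign
  -- the multiset
  set m := d.cycleType with hm
  have h5 : m = Multiset.replicate (m.count 2) 2 + Multiset.replicate (m.count 4) 4 := by
    ext n
    rw [Multiset.count_add, Multiset.count_replicate, Multiset.count_replicate]
    by_cases hn : n ∈ m
    · rcases hpart n hn with rfl | rfl
      · simp
      · simp
    · have h6 : m.count n = 0 := Multiset.count_eq_zero.2 hn
      rw [h6]
      by_cases h2 : n = 2
      · subst h2; simp [h6]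
      · by_cases h4 : n = 4
        · subst h4; simp [h6]
        · simp [Ne.symm h2, Ne.symm h4]
  generalize m.count 2 = a at h5
  generalize m.count 4 = b at h5
  rw [h5] at hsum hsupp hsign ⊢
  rw [Multiset.sum_add, Multiset.sum_replicate, Multiset.sum_replicate, smul_eq_mul, smul_eq_mul] at hsum hsupp hsign
  rw [Multiset.card_add, Multiset.card_replicate, Multiset.card_replicate] at hsign
  have hcases : (a = 4 ∧ b = 0) ∨ (a = 2 ∧ b = 1) ∨ (a = 0 ∧ b = 2) := by omega
  rcases hcases with ⟨rfl, rfl⟩ | ⟨rfl, rfl⟩ | ⟨rfl, rfl⟩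
  · exfalso
    apply hne
    have h6 : orderOf d ∣ 2 := by
      rw [← lcm_cycleType, ← hm, h5]
      decide
    exact orderOf_dvd_iff_pow_eq_one.1 h6
  · exact absurd hsign (by decide)
  · rfl

/-- **the square roots of `s9` are conjugate** -/
theorem root_conj {δ : A9} (h : δ * δ = s9) : ∃ c : A9, c * r9 * c⁻¹ = δ := by
  have h3 : IsConj pr (δ : Equiv.Perm (Fin 9)) := by
    rw [isConj_iff_cycleType_eq, cycle_pr, cyc_all h]
  obtain ⟨c, hc⟩ := isConj_iff.1 h3
  rcases Int.units_eq_one_or (sign c) with h4 | h4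
  · exact ⟨⟨c, mem_alternatingGroup.2 h4⟩, Subtype.ext hc⟩
  · refine ⟨⟨c * cy9 [0, 1, 2, 3], ?_⟩, Subtype.ext ?_⟩
    · rw [mem_alternatingGroup, map_mul, h4]
      decide +kernel
    · show c * cy9 [0, 1, 2, 3] * pr * (c * cy9 [0, 1, 2, 3])⁻¹ = (δ : Equiv.Perm (Fin 9))
      have h5 : cy9 [0, 1, 2, 3] * pr = pr * cy9 [0, 1, 2, 3] := by decide +kernel
      rw [← hc]
      calc c * cy9 [0, 1, 2, 3] * pr * (c * cy9 [0, 1, 2, 3])⁻¹ =
          c * (cy9 [0, 1, 2, 3] * pr) * (cy9 [0, 1, 2, 3])⁻¹ * c⁻¹ := by group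
        _ = c * pr * c⁻¹ := by rw [h5]; group

/-- the order of a centralizer in `A9` of an element commuting with an odd permutation -/
theorem card_cent {p : Equiv.Perm (Fin 9)} (hp : p ∈ alternatingGroup (Fin 9)) {z : Equiv.Perm (Fin 9)}
    (hz : z * p = p * z) (hz1 : sign z = -1) :
    Nat.card ↥(centralizer ({(⟨p, hp⟩ : A9)} : Set A9)) * 2 =
      Nat.card ↥(centralizer ({p} : Set (Equiv.Perm (Fin 9)))) := by
  have h1 : Nat.card ↥(centralizer ({(⟨p, hp⟩ : A9)} : Set A9)) =
      Nat.card ↥(centralizer ({p} : Set (Equiv.Perm (Fin 9))) ⊓ alternatingGroup (Fin 9)) := by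
    have h2 : centralizer ({(⟨p, hp⟩ : A9)} : Set A9) =
        (centralizer ({p} : Set (Equiv.Perm (Fin 9)))).subgroupOf (alternatingGroup (Fin 9)) := by
      ext y
      rw [mem_centralizer_singleton_iff, mem_subgroupOf, mem_centralizer_singleton_iff]
      exact Subtype.ext_iff
    rw [h2, ← inf_subgroupOf_right]
    exact Nat.card_congr (subgroupOfEquivOfLe inf_le_right).toEquiv
  have h3 := relIndex_mul_relIndex ⊥ (centralizer ({p} : Set (Equiv.Perm (Fin 9))) ⊓ alternatingGroup (Fin 9))
    (centralizer ({p} : Set (Equiv.Perm (Fin 9)))) bot_le inf_le_left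
  rw [relIndex_bot_left, relIndex_bot_left, inf_comm, inf_relIndex_right] at h3
  have h4 : (alternatingGroup (Fin 9)).relIndex (centralizer ({p} : Set (Equiv.Perm (Fin 9)))) ∣ 2 := by
    have h5 : (alternatingGroup (Fin 9)).index = 2 := alternatingGroup.index_eq_two
    rw [← h5]
    exact relIndex_dvd_index_of_normal _ _
  have h6 : (alternatingGroup (Fin 9)).relIndex (centralizer ({p} : Set (Equiv.Perm (Fin 9)))) ≠ 1 := by
    intro h
    rw [relIndex_eq_one] at h
    have h7 := mem_alternatingGroup.1 (h (mem_centralizer_singleton_iff.2 hz))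
    rw [hz1] at h7
    exact absurd h7 (by decide)
  rcases (Nat.dvd_prime Nat.prime_two).1 h4 with h7 | h7
  · exact absurd h7 h6
  · rw [h7] at h3
    rw [h1, inf_comm, h3]

theorem card_cent_s : Nat.card ↥(centralizer ({s9} : Set A9)) = 192 := by
  have h := card_cent (p := ps) ps_mem (z := Equiv.swap 0 2) (by decide +kernel) (by decide +kernel)
  have h0 : Nat.card ↥(centralizer ({ps} : Set (Equiv.Perm (Fin 9)))) = 384 := by
    have h := Equiv.Perm.nat_card_centralizer ps
    rw [cycle_ps] at h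
    rw [h]
    decide +kernel
  rw [h0] at h
  have h1 : Nat.card ↥(centralizer ({s9} : Set A9)) * 2 = 384 := h
  omega

theorem card_cent_r : Nat.card ↥(centralizer ({r9} : Set A9)) = 16 := by
  have h := card_cent (p := pr) pr_mem (z := cy9 [0, 1, 2, 3]) (by decide +kernel) (by decide +kernel)
  have h0 : Nat.card ↥(centralizer ({pr} : Set (Equiv.Perm (Fin 9)))) = 32 := by
    have h := Equiv.Perm.nat_card_centralizer pr
    rw [cycle_pr] at h
    rw [h]
    decide +kernel
  rw [h0] at h
  have h1 : Nat.card ↥(centralizer ({r9} : Set A9)) * 2 = 32 := h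
  omega

/-- **`A9` has no element of order 8** -/
theorem not_eight {δ : A9} (h8 : δ ^ 8 = 1) : δ ^ 4 = 1 := by
  set d : Equiv.Perm (Fin 9) := (δ : Equiv.Perm (Fin 9)) with hd
  have h8' : d ^ 8 = 1 := congrArg Subtype.val h8
  apply Subtype.ext
  change d ^ 4 = 1
  have ho : orderOf d ∣ 8 := orderOf_dvd_of_pow_eq_one h8'
  rw [← orderOf_dvd_iff_pow_eq_one, ← lcm_cycleType, Multiset.lcm_dvd]
  intro n hn
  have h1 : n ∣ 8 := (dvd_of_mem_cycleType hn).trans ho
  by_contra h2
  have h3 : n = 8 := by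
    have h3 := Nat.le_of_dvd (by norm_num) h1
    interval_cases n <;> first | rfl | (exfalso; revert h1; decide) | (exfalso; revert h2; decide)
  subst h3
  obtain ⟨m, hm⟩ := Multiset.exists_cons_of_mem hn
  have hsum := sum_cycleType_le d
  rw [Fintype.card_fin, hm, Multiset.sum_cons] at hsum
  have hm0 : m = 0 := by
    rw [Multiset.eq_zero_iff_forall_notMem]
    intro k hk
    have h4 : 2 ≤ k := two_le_of_mem_cycleType (σ := d) (by rw [hm]; exact Multiset.mem_cons_of_mem hk)
    have h5 := Multiset.single_le_sum (fun x _ => Nat.zero_le x) k hk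
    omega
  have hsign := sign_of_cycleType d
  have hs1 : sign d = 1 := mem_alternatingGroup.1 δ.2
  rw [hs1, hm, hm0] at hsign
  exact absurd hsign (by decide)

end Cfsg.Agent.H280.HNF.NineB
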