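import Cfsg.Agent.H280.HNF.NineB
import Cfsg.Agent.CpAutHN.Second

/-!
# Pairs `(x, s)` of the second type in HN (helper280)

Facts on `C(X1)`, from `C(X1) = ⟨X1⟩ × A₉` (hypothesis `M`).
-/

set_option autoImplicit false

namespace Cfsg.Agent.H280.HNF

open Subgroup Cfsg
open Cfsg.Agent
open Cfsg.Agent.CpAutHN.Alt
open Cfsg.Agent.CpAutHN.Tr
open Cfsg.Agent.CpAutHN.Pairs
open Cfsg.Agent.CpAutHN.Second
open Cfsg.Agent.CpAutHN.NineAlt
open Cfsg.Agent.H678.HNT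
open Cfsg.Agent.HN.XWords (W0)

/-- the centralizer of `X1` -/
abbrev C1 : Type := ↥(centralizer ({X1} : Set G))

/-- `X1` in its centralizer -/
noncomputable def x1' : C1 := ⟨X1, mem_centralizer_singleton_iff.2 rfl⟩

theorem x1'_comm (y : C1) : Commute x1' y := Subtype.ext (mem_centralizer_singleton_iff.1 y.2).symm

theorem order_x1' : orderOf x1' = 3 := by rw [← Subgroup.orderOf_coe]; exact order_X1

/-- the pair `(X1, Ψ s9)` is of the second type -/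
theorem t2_s9 : T2 X1 (Ψ s9 : G) := by
  have hs : ((Ψ s9 : C1) : G) = Φ ⟨u9, u9_mem⟩ := by rw [Ψ_coe, ι_s9]
  have hc : X1 * (Ψ s9 : C1) = (Ψ s9 : C1) * X1 := (mem_centralizer_singleton_iff.1 (Ψ s9).2).symm
  rcases T1_or_T2 order_X1 (isConj_W0_of_tr (s := Φ ⟨u9, u9_mem⟩)
    (orderOf_two u9_mem (by decide +kernel) (by decide +kernel)) tr_u9) (by rw [← hs]; exact hc) with h | h
  · exfalso
    obtain ⟨c, hc, -⟩ := h.conj order_X1 order_X3 t1_x3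
    exact not_conj (isConj_iff.2 ⟨c, hc⟩)
  · rwa [hs]

/-- the hypothesis `C(X1) = ⟨X1⟩ × A₉` -/
structure Main : Prop where
  gen : ∀ h : C1, ∃ (i : ℤ) (a : A9), h = x1' ^ i * Ψ a
  disj : ∀ (i : ℤ) (a : A9), x1' ^ i * Ψ a = 1 → x1' ^ i = 1 ∧ a = 1

namespace Main

variable (M : Main)
include M

theorem inj {i j : ℤ} {a b : A9} (h : x1' ^ i * Ψ a = x1' ^ j * Ψ b) : x1' ^ i = x1' ^ j ∧ a = b := by
  have h2 : x1' ^ (-j + i) * Ψ (a * b⁻¹) = 1 := by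
    rw [map_mul, map_inv, zpow_add, mul_assoc, ← mul_assoc (x1' ^ i), h]
    group
  obtain ⟨h3, h4⟩ := M.disj _ _ h2
  refine ⟨?_, mul_inv_eq_one.1 h4⟩
  rw [zpow_add, zpow_neg, inv_mul_eq_one] at h3
  exact h3.symm

/-- **the centralizer of an element of `A9` in `C(X1)`** -/
theorem card_cent (a : A9) : Nat.card ↥(centralizer ({Ψ a} : Set C1)) =
    3 * Nat.card ↥(centralizer ({a} : Set A9)) := by
  rw [← order_x1', ← Nat.card_zpowers, ← Nat.card_prod]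
  symm
  have hm : ∀ p : ↥(zpowers x1') × ↥(centralizer ({a} : Set A9)), (p.1 : C1) * Ψ p.2 ∈
      centralizer ({Ψ a} : Set C1) := by
    rintro ⟨⟨u, hu⟩, ⟨b, hb⟩⟩
    obtain ⟨i, rfl⟩ := mem_zpowers_iff.1 hu
    rw [mem_centralizer_singleton_iff]
    have h1 : Commute (x1' ^ i) (Ψ a) := (x1'_comm _).zpow_left i
    have h2 : Commute (Ψ b) (Ψ a) := by
      have := mem_centralizer_singleton_iff.1 hb
      exact (show Commute b a from this).map Ψ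
    exact (h1.mul_left h2).eq
  refine Nat.card_congr (Equiv.ofBijective (fun p => (⟨(p.1 : C1) * Ψ p.2, hm p⟩ :
    ↥(centralizer ({Ψ a} : Set C1)))) ⟨?_, ?_⟩)
  · rintro ⟨⟨u, hu⟩, ⟨a, ha⟩⟩ ⟨⟨v, hv⟩, ⟨b, hb⟩⟩ h
    obtain ⟨i, rfl⟩ := mem_zpowers_iff.1 hu
    obtain ⟨j, rfl⟩ := mem_zpowers_iff.1 hv
    obtain ⟨h1, h2⟩ := M.inj (congrArg Subtype.val h)
    exact Prod.ext (Subtype.ext h1) (Subtype.ext h2)
  · rintro ⟨c, hc⟩
    obtain ⟨i, b, rfl⟩ := M.gen c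
    have h1 : x1' ^ i * Ψ b * Ψ a = Ψ a * (x1' ^ i * Ψ b) := mem_centralizer_singleton_iff.1 hc
    have h2 : b ∈ centralizer ({a} : Set A9) := by
      rw [mem_centralizer_singleton_iff]
      apply Ψ_inj
      rw [map_mul, map_mul]
      have h3 : Commute (x1' ^ i) (Ψ a) := (x1'_comm _).zpow_left i
      have h4 : Commute (x1' ^ i * Ψ b) (Ψ a) := h1
      have h5 : Ψ b = (x1' ^ i)⁻¹ * (x1' ^ i * Ψ b) := by group
      rw [h5]
      exact (h3.inv_left.mul_left h4).eq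
    exact ⟨⟨⟨x1' ^ i, ⟨i, rfl⟩⟩, ⟨b, h2⟩⟩, rfl⟩

/-- elements of 2-power order are in `A9` -/
theorem two_el {h : C1} {k : ℕ} (hk : h ^ 2 ^ k = 1) : ∃ a : A9, a ^ 2 ^ k = 1 ∧ h = Ψ a := by
  obtain ⟨i, a, rfl⟩ := M.gen h
  have hc : Commute (x1' ^ i) (Ψ a) := (x1'_comm _).zpow_left i
  rw [hc.mul_pow, ← map_pow, ← zpow_natCast, ← zpow_mul] at hk
  obtain ⟨h1, h2⟩ := M.disj _ _ hk
  refine ⟨a, h2, ?_⟩
  have h3 : (3 : ℤ) ∣ i * ((2 ^ k : ℕ) : ℤ) := by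
    have := orderOf_dvd_iff_zpow_eq_one.2 h1
    rwa [order_x1'] at this
  have h4 : (3 : ℤ) ∣ i := by
    have h5 : IsCoprime (3 : ℤ) ((2 ^ k : ℕ) : ℤ) := by
      rw [Nat.cast_pow]
      exact IsCoprime.pow_right (by norm_num)
    exact h5.dvd_of_dvd_mul_right h3
  have h5 : x1' ^ i = 1 := by
    apply orderOf_dvd_iff_zpow_eq_one.1
    rw [order_x1']
    exact h4
  rw [h5, one_mul]

end Main

end Cfsg.Agent.H280.HNF
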