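import Cfsg.Agent.H280.HNF.T1
import Cfsg.Agent.H280.HNF.T2

/-!
# Centralizers of pairs in HN (helper280)

* `card_T1`, `card_T2` : `|C(x) ∩ C(s)| = 360`, `576`;
* `T1.root_conj`, `T2.root_conj` : the pairs `(x, i)`, `i` commuting with `x` and `i ^ 2 = s`, are conjugate;
* `card_T1_root`, `card_T2_root` : `|C(x) ∩ C(i)| = 12`, `48`;
* `T1.not_eight`, `T2.not_eight` : no element of order 8 above.
-/

set_option autoImplicit false

namespace Cfsg.Agent.H280.HNF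

open Subgroup Cfsg
open Cfsg.Agent
open Cfsg.Agent.CpAutHN.Alt
open Cfsg.Agent.CpAutHN.Tr
open Cfsg.Agent.CpAutHN.LqFacts
open Cfsg.Agent.CpAutHN.PPFacts
open Cfsg.Agent.CpAutHN.Pairs
open Cfsg.Agent.CpAutHN.Second
open Cfsg.Agent.CpAutHN.NineAlt
open Cfsg.Agent.KFacts.HN (PP mem_PP ρ φA φB W0_ne A5)
open Cfsg.Agent.HN.XWords (W0 W0_sq)
open Cfsg.Agent.H569.HNThree (finite_G)

/-- conjugate pairs -/
theorem card_pair_conj {x s x' s' c : G} (hx : c * x * c⁻¹ = x') (hs : c * s * c⁻¹ = s') :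
    Nat.card ↥(centralizer ({x} : Set G) ⊓ centralizer ({s} : Set G)) =
      Nat.card ↥(centralizer ({x'} : Set G) ⊓ centralizer ({s'} : Set G)) := by
  have key : ∀ {a b d z : G}, d * a * d⁻¹ = b → z * a = a * z → d * z * d⁻¹ * b = b * (d * z * d⁻¹) := by
    intro a b d z h hz
    rw [← h]
    calc d * z * d⁻¹ * (d * a * d⁻¹) = d * (z * a) * d⁻¹ := by group
      _ = d * (a * z) * d⁻¹ := by rw [hz]
      _ = _ := by group
  have hx' : c⁻¹ * x' * c⁻¹⁻¹ = x := by rw [← hx]; group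
  have hs' : c⁻¹ * s' * c⁻¹⁻¹ = s := by rw [← hs]; group
  refine Nat.card_congr ⟨fun u => ⟨c * u * c⁻¹, ?_⟩, fun u => ⟨c⁻¹ * u * c⁻¹⁻¹, ?_⟩, fun u => ?_, fun u => ?_⟩
  · exact ⟨mem_centralizer_singleton_iff.2 (key hx (mem_centralizer_singleton_iff.1 u.2.1)),
      mem_centralizer_singleton_iff.2 (key hs (mem_centralizer_singleton_iff.1 u.2.2))⟩
  · exact ⟨mem_centralizer_singleton_iff.2 (key hx' (mem_centralizer_singleton_iff.1 u.2.1)),
      mem_centralizer_singleton_iff.2 (key hs' (mem_centralizer_singleton_iff.1 u.2.2))⟩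
  · apply Subtype.ext
    show c⁻¹ * (c * (u : G) * c⁻¹) * c⁻¹⁻¹ = u
    group
  · apply Subtype.ext
    show c * (c⁻¹ * (u : G) * c⁻¹⁻¹) * c⁻¹ = u
    group

/-- the pairs `(x, W0)` -/
theorem card_pair_W0 (x : PP) : Nat.card ↥(centralizer ({(x : G)} : Set G) ⊓ centralizer ({W0} : Set G)) =
    Nat.card ↥(CP x) := by
  refine Nat.card_congr ⟨fun u => ⟨⟨u, mem_PP.2 (mem_centralizer_singleton_iff.1 u.2.2)⟩, ?_⟩,
    fun u => ⟨((u : PP) : G), ?_, ?_⟩, fun _ => rfl, fun _ => rfl⟩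
  · exact mem_centralizer_singleton_iff.2 (Subtype.ext (mem_centralizer_singleton_iff.1 u.2.1))
  · exact mem_centralizer_singleton_iff.2 (congrArg Subtype.val (mem_centralizer_singleton_iff.1 u.2))
  · exact mem_centralizer_singleton_iff.2 (mem_PP.1 (u : PP).2)

/-- **`|C(x) ∩ C(s)| = 360`, first type** -/
theorem card_T1 {x s : G} (h3 : orderOf x = 3) (h : T1 x s) :
    Nat.card ↥(centralizer ({x} : Set G) ⊓ centralizer ({s} : Set G)) = 360 := by
  obtain ⟨g, hg, hs, hρ⟩ := h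
  rw [card_pair_conj (x' := g * x * g⁻¹) rfl hs]
  rw [show g * x * g⁻¹ = ((⟨g * x * g⁻¹, hg⟩ : PP) : G) from rfl, card_pair_W0,
    card_CP (order_sub hg (order_conj h3 g)) hρ]

/-- the standard form of a pair of the first type with a root -/
theorem T1.form {x s i : G} (h3 : orderOf x = 3) (h : T1 x s) (hix : i * x = x * i) (hi : i * i = s) :
    ∃ (g : G) (y j : PP), g * x * g⁻¹ = y ∧ g * i * g⁻¹ = j ∧ orderOf y = 3 ∧ ρ y = φA c0 ∧ j * y = y * j ∧
      j * j = w0 := by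
  obtain ⟨g, hg, hs, hρ⟩ := h
  have hii : g * i * g⁻¹ * (g * i * g⁻¹) = W0 := by
    rw [← hs, ← hi]; group
  have hj : g * i * g⁻¹ ∈ PP := by
    rw [mem_PP, ← hii]
    group
  refine ⟨g, ⟨_, hg⟩, ⟨_, hj⟩, rfl, rfl, order_sub hg (order_conj h3 g), hρ, ?_, Subtype.ext hii⟩
  apply Subtype.ext
  change g * i * g⁻¹ * (g * x * g⁻¹) = g * x * g⁻¹ * (g * i * g⁻¹)
  calc g * i * g⁻¹ * (g * x * g⁻¹) = g * (i * x) * g⁻¹ := by group
    _ = g * (x * i) * g⁻¹ := by rw [hix]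
    _ = _ := by group

/-- **pairs `(x, i)` of the first type are conjugate** -/
theorem T1.root_conj {x s i x' s' i' : G} (h3 : orderOf x = 3) (h3' : orderOf x' = 3) (h : T1 x s) (h' : T1 x' s')
    (hix : i * x = x * i) (hix' : i' * x' = x' * i') (hi : i * i = s) (hi' : i' * i' = s') :
    ∃ c : G, c * x * c⁻¹ = x' ∧ c * i * c⁻¹ = i' := by
  obtain ⟨g, y, j, hy, hj, hy3, hρ, hjy, hjj⟩ := T1.form h3 h hix hi
  obtain ⟨g', y', j', hy', hj', hy3', hρ', hjy', hjj'⟩ := T1.form h3' h' hix' hi'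
  obtain ⟨q, hq⟩ := conj_same hy3 hy3' (hρ.trans hρ'.symm)
  have h1 : q * j * q⁻¹ * y' = y' * (q * j * q⁻¹) := by
    rw [← hq]
    calc q * j * q⁻¹ * (q * y * q⁻¹) = q * (j * y) * q⁻¹ := by group
      _ = q * (y * j) * q⁻¹ := by rw [hjy]
      _ = _ := by group
  have h2 : q * j * q⁻¹ * (q * j * q⁻¹) = w0 := by
    calc q * j * q⁻¹ * (q * j * q⁻¹) = q * (j * j) * q⁻¹ := by group
      _ = w0 := by rw [hjj, w0_comm, mul_inv_cancel_right]
  obtain ⟨v, hv, hvj⟩ := conj_root hy3' hρ' h1 hjy' h2 hjj'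
  have e1 : (v : G) * (q * y * (q : G)⁻¹) * (v : G)⁻¹ = y' := by
    have : v * y' * v⁻¹ = y' := by rw [hv, mul_inv_cancel_right]
    rw [← hq] at this
    exact (congrArg Subtype.val this).trans (congrArg Subtype.val hq)
  have e2 : (v : G) * (q * j * (q : G)⁻¹) * (v : G)⁻¹ = j' := congrArg Subtype.val hvj
  rw [← hy, ← hy'] at e1
  rw [← hj, ← hj'] at e2
  refine ⟨g'⁻¹ * v * q * g, ?_, ?_⟩
  · calc g'⁻¹ * v * q * g * x * (g'⁻¹ * v * q * g)⁻¹ =
        g'⁻¹ * ((v : G) * (q * (g * x * g⁻¹) * (q : G)⁻¹) * (v : G)⁻¹) * g' := by group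
      _ = x' := by rw [e1]; group
  · calc g'⁻¹ * v * q * g * i * (g'⁻¹ * v * q * g)⁻¹ =
        g'⁻¹ * ((v : G) * (q * (g * i * g⁻¹) * (q : G)⁻¹) * (v : G)⁻¹) * g' := by group
      _ = i' := by rw [e2]; group

/-- **the centralizer of `(x, i)`, first type** -/
theorem T1.cent_root {x s i v : G} (h3 : orderOf x = 3) (h : T1 x s) (hix : i * x = x * i) (hi : i * i = s)
    (hv : v * x = x * v) (hvi : v * i = i * v) : ∃ k l : ℕ, v = x ^ k * i ^ l := by
  obtain ⟨g, y, j, hy, hj, hy3, hρ, hjy, hjj⟩ := T1.form h3 h hix hi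
  have hjjG : (j : G) * j = W0 := congrArg Subtype.val hjj
  have hvj : g * v * g⁻¹ * j = j * (g * v * g⁻¹) := by
    rw [← hj]
    calc g * v * g⁻¹ * (g * i * g⁻¹) = g * (v * i) * g⁻¹ := by group
      _ = g * (i * v) * g⁻¹ := by rw [hvi]
      _ = _ := by group
  have hvy : g * v * g⁻¹ * y = y * (g * v * g⁻¹) := by
    rw [← hy]
    calc g * v * g⁻¹ * (g * x * g⁻¹) = g * (v * x) * g⁻¹ := by group
      _ = g * (x * v) * g⁻¹ := by rw [hv]
      _ = _ := by group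
  have hm : g * v * g⁻¹ ∈ PP := by
    rw [mem_PP, ← hjjG, ← mul_assoc, hvj, mul_assoc, hvj, ← mul_assoc]
  obtain ⟨k, l, hkl⟩ := HNF.cent_root hρ hjy hjj (v := ⟨g * v * g⁻¹, hm⟩) (Subtype.ext hvy) (Subtype.ext hvj)
  have h1 : g * v * g⁻¹ = (y : G) ^ k * (j : G) ^ l := congrArg Subtype.val hkl
  refine ⟨k, l, ?_⟩
  rw [← hy, ← hj, conj_pow, conj_pow] at h1
  calc v = g⁻¹ * (g * v * g⁻¹) * g := by group
    _ = x ^ k * i ^ l := by rw [h1]; group

/-! ### products -/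

/-- `x` and `i` are powers of `x * i` -/
theorem pow_four {x i : G} (hx : x ^ 3 = 1) (hi : i ^ 4 = 1) (h : i * x = x * i) : (x * i) ^ 4 = x := by
  rw [(show Commute x i from h.symm).mul_pow, hi, mul_one, pow_succ, hx, one_mul]

theorem pow_nine {x i : G} (hx : x ^ 3 = 1) (hi : i ^ 8 = 1) (h : i * x = x * i) : (x * i) ^ 9 = i := by
  rw [(show Commute x i from h.symm).mul_pow, show x ^ 9 = (x ^ 3) ^ 3 by rw [← pow_mul], hx, one_pow, one_mul,
    show i ^ 9 = i ^ 8 * i by rw [← pow_succ], hi, one_mul]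

theorem cent_mul {x i : G} (hx : x ^ 3 = 1) (hi : i ^ 4 = 1) (h : i * x = x * i) :
    centralizer ({x * i} : Set G) = centralizer ({x} : Set G) ⊓ centralizer ({i} : Set G) := by
  have hi8 : i ^ 8 = 1 := by rw [show (8 : ℕ) = 4 * 2 by norm_num, pow_mul, hi, one_pow]
  apply le_antisymm
  · intro v hv
    have h1 : Commute v (x * i) := mem_centralizer_singleton_iff.1 hv
    refine ⟨mem_centralizer_singleton_iff.2 ?_, mem_centralizer_singleton_iff.2 ?_⟩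
    · have h2 := h1.pow_right 4
      rw [pow_four hx hi h] at h2
      exact h2
    · have h2 := h1.pow_right 9
      rw [pow_nine hx hi8 h] at h2
      exact h2
  · rintro v ⟨h1, h2⟩
    have h3 : Commute v x := mem_centralizer_singleton_iff.1 h1
    have h4 : Commute v i := mem_centralizer_singleton_iff.1 h2
    exact mem_centralizer_singleton_iff.2 (h3.mul_right h4)

/-- **the centralizer of `x * i`, first type, is cyclic** -/
theorem T1.cent_eq {x s i : G} (h3 : orderOf x = 3) (h : T1 x s) (hix : i * x = x * i) (hi : i * i = s)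
    (hi4 : i ^ 4 = 1) : centralizer ({x * i} : Set G) = zpowers (x * i) := by
  have hx : x ^ 3 = 1 := by rw [← h3, pow_orderOf_eq_one]
  have hi8 : i ^ 8 = 1 := by rw [show (8 : ℕ) = 4 * 2 by norm_num, pow_mul, hi4, one_pow]
  apply le_antisymm
  · rw [cent_mul hx hi4 hix]
    rintro v ⟨h1, h2⟩
    obtain ⟨k, l, rfl⟩ := T1.cent_root h3 h hix hi (mem_centralizer_singleton_iff.1 h1)
      (mem_centralizer_singleton_iff.1 h2)
    have hzx : x ∈ zpowers (x * i) := by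
      have := pow_mem (mem_zpowers (x * i)) 4
      rwa [pow_four hx hi4 hix] at this
    have hzi : i ∈ zpowers (x * i) := by
      have := pow_mem (mem_zpowers (x * i)) 9
      rwa [pow_nine hx hi8 hix] at this
    exact mul_mem (pow_mem hzx k) (pow_mem hzi l)
  · rw [zpowers_le, mem_centralizer_singleton_iff]

/-! ### the second type -/

variable (M : Main)
include M

/-- centralizers in `C(X1)` -/
theorem card_pair_C1 (a : A9) : Nat.card ↥(centralizer ({X1} : Set G) ⊓ centralizer ({(Ψ a : G)} : Set G)) =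
    3 * Nat.card ↥(centralizer ({a} : Set A9)) := by
  rw [← M.card_cent]
  refine Nat.card_congr ⟨fun u => ⟨⟨u, u.2.1⟩, ?_⟩, fun u => ⟨((u : C1) : G), (u : C1).2, ?_⟩, fun _ => rfl,
    fun _ => rfl⟩
  · exact mem_centralizer_singleton_iff.2 (Subtype.ext (mem_centralizer_singleton_iff.1 u.2.2))
  · exact mem_centralizer_singleton_iff.2 (congrArg Subtype.val (mem_centralizer_singleton_iff.1 u.2))

/-- **`|C(x) ∩ C(s)| = 576`, second type** -/
theorem card_T2 {x s : G} (h3 : orderOf x = 3) (h : T2 x s) :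
    Nat.card ↥(centralizer ({x} : Set G) ⊓ centralizer ({s} : Set G)) = 576 := by
  obtain ⟨c, hc, hcs⟩ := h.conj h3 order_X1 t2_s9
  rw [card_pair_conj hc hcs, card_pair_C1 M, NineB.card_cent_s]

/-- the standard form of 2-elements commuting with `x` -/
theorem T2.form {x s i : G} {k : ℕ} (h3 : orderOf x = 3) (h : T2 x s) (hix : i * x = x * i) (hik : i ^ 2 ^ k = 1) :
    ∃ (g : G) (a : A9), g * x * g⁻¹ = X1 ∧ g * s * g⁻¹ = Ψ s9 ∧ g * i * g⁻¹ = Ψ a ∧ a ^ 2 ^ k = 1 := by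
  obtain ⟨g, hg, hgs⟩ := h.conj h3 order_X1 t2_s9
  have h1 : g * i * g⁻¹ ∈ centralizer ({X1} : Set G) := by
    rw [mem_centralizer_singleton_iff, ← hg]
    calc g * i * g⁻¹ * (g * x * g⁻¹) = g * (i * x) * g⁻¹ := by group
      _ = g * (x * i) * g⁻¹ := by rw [hix]
      _ = _ := by group
  obtain ⟨a, ha, e⟩ := M.two_el (h := ⟨g * i * g⁻¹, h1⟩) (k := k) (by
    apply Subtype.ext
    change (g * i * g⁻¹) ^ 2 ^ k = 1
    rw [conj_pow, hik]
    group)
  exact ⟨g, a, hg, hgs, congrArg Subtype.val e, ha⟩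

/-- **pairs `(x, i)` of the second type are conjugate to `(X1, Ψ r9)`** -/
theorem T2.root {x s i : G} (h3 : orderOf x = 3) (h : T2 x s) (hix : i * x = x * i) (hi : i * i = s)
    (hi4 : i ^ 4 = 1) : ∃ c : G, c * x * c⁻¹ = X1 ∧ c * i * c⁻¹ = Ψ NineB.r9 := by
  obtain ⟨g, a, hg, hgs, hgi, -⟩ := T2.form M (k := 2) h3 h hix hi4
  have h1 : a * a = s9 := by
    apply Ψ_inj
    apply Subtype.ext
    rw [map_mul, Subgroup.coe_mul, ← hgs, ← hgi, ← hi]
    group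
  obtain ⟨b, hb⟩ := NineB.root_conj h1
  have h2 : ((Ψ b : C1) : G) * (Ψ NineB.r9 : C1) * ((Ψ b : C1) : G)⁻¹ = (Ψ a : C1) := by
    rw [← hb, map_mul, map_mul, map_inv]
    rfl
  have h4 : ((Ψ b : C1) : G)⁻¹ * X1 * ((Ψ b : C1) : G)⁻¹⁻¹ = X1 := by
    have h5 : Commute ((Ψ b : C1) : G) X1 := mem_centralizer_singleton_iff.1 (Ψ b).2
    rw [h5.inv_left.eq, mul_inv_cancel_right]
  refine ⟨((Ψ b : C1) : G)⁻¹ * g, ?_, ?_⟩
  · calc ((Ψ b : C1) : G)⁻¹ * g * x * (((Ψ b : C1) : G)⁻¹ * g)⁻¹ =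
        ((Ψ b : C1) : G)⁻¹ * (g * x * g⁻¹) * ((Ψ b : C1) : G)⁻¹⁻¹ := by group
      _ = X1 := by rw [hg, h4]
  · calc ((Ψ b : C1) : G)⁻¹ * g * i * (((Ψ b : C1) : G)⁻¹ * g)⁻¹ =
        ((Ψ b : C1) : G)⁻¹ * (g * i * g⁻¹) * ((Ψ b : C1) : G) := by group
      _ = (Ψ NineB.r9 : C1) := by rw [hgi, ← h2]; group

theorem T2.root_conj {x s i x' s' i' : G} (h3 : orderOf x = 3) (h3' : orderOf x' = 3) (h : T2 x s) (h' : T2 x' s')
    (hix : i * x = x * i) (hix' : i' * x' = x' * i') (hi : i * i = s) (hi' : i' * i' = s') (hi4 : i ^ 4 = 1)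
    (hi4' : i' ^ 4 = 1) : ∃ c : G, c * x * c⁻¹ = x' ∧ c * i * c⁻¹ = i' := by
  obtain ⟨c, hc, hci⟩ := T2.root M h3 h hix hi hi4
  obtain ⟨c', hc', hci'⟩ := T2.root M h3' h' hix' hi' hi4'
  refine ⟨c'⁻¹ * c, ?_, ?_⟩
  · calc c'⁻¹ * c * x * (c'⁻¹ * c)⁻¹ = c'⁻¹ * (c * x * c⁻¹) * c' := by group
      _ = x' := by rw [hc, ← hc']; group
  · calc c'⁻¹ * c * i * (c'⁻¹ * c)⁻¹ = c'⁻¹ * (c * i * c⁻¹) * c' := by group
      _ = i' := by rw [hci, ← hci']; group

theorem card_T2_root {x s i : G} (h3 : orderOf x = 3) (h : T2 x s) (hix : i * x = x * i) (hi : i * i = s)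
    (hi4 : i ^ 4 = 1) : Nat.card ↥(centralizer ({x} : Set G) ⊓ centralizer ({i} : Set G)) = 48 := by
  obtain ⟨c, hc, hci⟩ := T2.root M h3 h hix hi hi4
  rw [card_pair_conj hc hci, card_pair_C1 M, NineB.card_cent_r]

theorem T2.not_eight {x s h : G} (h3 : orderOf x = 3) (hT : T2 x s) (hx : h * x = x * h) (h8 : h ^ 8 = 1) :
    h ^ 4 = 1 := by
  obtain ⟨g, a, hg, hgs, hgi, ha⟩ := T2.form M (k := 3) h3 hT hx h8
  have h1 := NineB.not_eight (δ := a) ha
  have h2 : (g * h * g⁻¹) ^ 4 = 1 := by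
    rw [hgi, ← SubgroupClass.coe_pow, ← map_pow, h1, map_one]
    rfl
  rw [conj_pow] at h2
  exact conj_eq_one_iff.1 h2

omit M in
theorem T1.not_eight {x s h : G} (h3 : orderOf x = 3) (hT : T1 x s) (hx : h * x = x * h) (h4 : h ^ 4 = s)
    (hs : s * s = 1) : False := by
  have hhx : Commute h x := hx
  have h2x : h ^ 2 * x = x * h ^ 2 := (hhx.pow_left 2).eq
  obtain ⟨k, l, hkl⟩ := T1.cent_root h3 hT (i := h ^ 2) h2x (by rw [← pow_add, h4]) hx
    ((Commute.refl h).pow_right 2).eq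
  -- `h = x ^ k * h ^ (2 l)`
  rw [← pow_mul] at hkl
  have h8 : h ^ 8 = 1 := by rw [show (8 : ℕ) = 4 + 4 by norm_num, pow_add, h4, hs]
  have hx3 : x ^ 3 = 1 := by rw [← h3, pow_orderOf_eq_one]
  have h5 : h ^ 12 = 1 := by
    have h6 : h ^ 12 = (x ^ k * h ^ (2 * l)) ^ 12 := by rw [← hkl]
    rw [h6, ((hhx.symm.pow_left k).pow_right (2 * l)).mul_pow, ← pow_mul, ← pow_mul,
      show k * 12 = 3 * (4 * k) by ring, show 2 * l * 12 = 8 * (3 * l) by ring, pow_mul x 3 (4 * k),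
      pow_mul h 8 (3 * l), hx3, h8, one_pow, one_pow, one_mul]
  have h7 : s = 1 := by
    rw [show (12 : ℕ) = 8 + 4 by norm_num, pow_add, h8, one_mul, h4] at h5
    exact h5
  obtain ⟨g, hg, hgs, -⟩ := hT
  rw [h7, mul_one, mul_inv_cancel] at hgs
  exact W0_ne hgs.symm

end Cfsg.Agent.H280.HNF
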