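import Cfsg.Agent.H280.HNF.Pair
import Cfsg.Agent.H678.HNT.Cent

/-!
# The classes 6B, 6C, 12B, 12C of the Harada–Norton group (helper280)

`W0` : an involution of class 2B; `X1`, `X3` of order 3 (classes 3A, 3B), `S1`, `S3` involutions `~ W0` commuting with
`X1`, `X3`; `I1`, `I3` square roots of `S1`, `S3` commuting with `X1`, `X3`.

* `card6B`, `card6C`, `card12B`, `card12C` : the centralizers of `X1 * S1`, `X3 * S3`, `X1 * I1`, `X3 * I3` have order
  576, 360, 48, 12;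
* `six`, `twelve` : the elements `g` of order 6 (12) with `g ^ 3 ~ W0` (`g ^ 6 ~ W0`);
* `not24`, `not9` : no elements of order 24 above `W0`, no elements of even order divisible by 9;
* `n6B`, `n6C`, `n12B`, `n12C` : the numbers of elements.
-/

set_option autoImplicit false

namespace Cfsg.Agent.H280.HNF

open Subgroup Cfsg
open Cfsg.Agent
open Cfsg.Agent.CpAutHN.Alt
open Cfsg.Agent.CpAutHN.Tr
open Cfsg.Agent.CpAutHN.LqFacts
open Cfsg.Agent.CpAutHN.PPFacts
open Cfsg.Agent.CpAutHN.Pairs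
open Cfsg.Agent.CpAutHN.Second
open Cfsg.Agent.CpAutHN.NineAlt
open Cfsg.Agent.KFacts.HN (PP mem_PP ρ φA φB W0_ne A5)
open Cfsg.Agent.HN.XWords (W0 W0_sq)
open Equiv.Perm (mem_alternatingGroup)

theorem card_G : Nat.card G = 273030912000000 := Cfsg.Agent.KFacts.HN.Classes.card_HN

instance finite_G : Finite G := Cfsg.Agent.H569.HNThree.finite_G

/-- **`C(X1) = ⟨X1⟩ × A₉`** -/
theorem main : Main where
  gen := H678.HNT.Cent.main
  disj := by
    intro i a h
    have hc : Commute (x1' ^ i) (Ψ a) := (x1'_comm _).zpow_left i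
    have h1 : Ψ a ∈ H678.HNT.Cent.DD ⊓ pPrimeCore 2 C1 := by
      refine ⟨⟨a, rfl⟩, ?_⟩
      have : Ψ a = (x1' ^ i)⁻¹ := by rw [eq_inv_iff_mul_eq_one, ← hc.eq]; exact h
      rw [this]
      exact (pPrimeCore 2 C1).inv_mem ((pPrimeCore 2 C1).zpow_mem H678.HNT.Cent.xx_core i)
    rw [H678.HNT.inf_core H678.HNT.Cent.DD H678.HNT.Cent.two_dvd, mem_bot] at h1
    refine ⟨?_, (injective_iff_map_eq_one Ψ).1 Ψ_inj a h1⟩
    rw [h1, mul_one] at h
    exact h

/-! ### generalities -/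

theorem card_class (w : G) : Nat.card ↥(centralizer ({w} : Set G)) * Nat.card {g : G // IsConj w g} = Nat.card G := by
  have h1 : Nat.card (MulAction.orbit (ConjAct G) w) * Nat.card (MulAction.stabilizer (ConjAct G) w) = Nat.card G := by
    have h3 := Nat.card_congr (MulAction.orbitProdStabilizerEquivGroup (ConjAct G) w)
    rw [Nat.card_prod] at h3
    exact h3
  have h2 : Nat.card (MulAction.stabilizer (ConjAct G) w) = Nat.card ↥(centralizer ({w} : Set G)) := by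
    rw [ConjAct.stabilizer_eq_centralizer]
    rfl
  have h3 : Nat.card (MulAction.orbit (ConjAct G) w) = Nat.card {g : G // IsConj w g} :=
    Nat.card_congr (Equiv.subtypeEquivRight fun g => by rw [ConjAct.mem_orbit_conjAct]; exact isConj_comm)
  rw [← h1, h2, h3, mul_comm]

theorem card_of_iff {w : G} {P : G → Prop} (h : ∀ g, P g ↔ IsConj w g) :
    Nat.card ↥(centralizer ({w} : Set G)) * Nat.card {g : G // P g} = Nat.card G := by
  rw [← card_class w, Nat.card_congr (Equiv.subtypeEquivRight h)]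

theorem IsConj.pow_two_three {g h : G} (H : IsConj g h) (n : ℕ) : IsConj (g ^ n) (h ^ n) := by
  obtain ⟨c, hc⟩ := isConj_iff.1 H
  exact isConj_iff.2 ⟨c, by rw [← conj_pow, hc]⟩

theorem order_conj' {g h : G} (H : IsConj g h) : orderOf g = orderOf h := by
  obtain ⟨c, hc⟩ := isConj_iff.1 H
  rw [← hc]
  exact (MulEquiv.orderOf_eq (MulAut.conj c) g).symm

/-! ### the square roots -/

/-- `(0 2 1 3)(4 6 5 7)` -/
def i1 : Equiv.Perm (Fin 12) := cy [0, 2, 1, 3] * cy [4, 6, 5, 7]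

theorem i1_mem : i1 ∈ alternatingGroup (Fin 12) := by rw [mem_alternatingGroup]; decide +kernel

/-- a square root of `S1` commuting with `X1` -/
noncomputable def I1 : G := Φ ⟨i1, i1_mem⟩

theorem I1X1 : I1 * X1 = X1 * I1 := comm_of i1_mem x1_mem (by decide +kernel)

theorem I1_sq : I1 * I1 = S1 := by
  have h : (⟨i1, i1_mem⟩ : A12) * ⟨i1, i1_mem⟩ = ⟨s1, s1_mem⟩ := by
    apply Subtype.ext
    change i1 * i1 = s1
    decide +kernel
  change Φ _ * Φ _ = Φ _
  rw [← map_mul, h]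

theorem exists_I3 : ∃ i : G, i * X3 = X3 * i ∧ i * i = S3 := by
  obtain ⟨g, hg⟩ := H569.HNThree.exists_sqrt
  exact ⟨g, mem_centralizer_singleton_iff.1 g.2, congrArg Subtype.val hg⟩

/-- a square root of `S3` commuting with `X3` -/
noncomputable def I3 : G := exists_I3.choose

theorem I3X3 : I3 * X3 = X3 * I3 := exists_I3.choose_spec.1
theorem I3_sq : I3 * I3 = S3 := exists_I3.choose_spec.2

theorem S1_sq : S1 * S1 = 1 := by rw [← pow_two, ← order_S1, pow_orderOf_eq_one]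
theorem S3_sq : S3 * S3 = 1 := by rw [← pow_two, ← order_S3, pow_orderOf_eq_one]
theorem X1_cube : X1 ^ 3 = 1 := by rw [← order_X1, pow_orderOf_eq_one]
theorem X3_cube : X3 ^ 3 = 1 := by rw [← order_X3, pow_orderOf_eq_one]
theorem S1X1 : S1 * X1 = X1 * S1 := comm_of s1_mem x1_mem (by decide +kernel)
theorem S3X3 : S3 * X3 = X3 * S3 := comm_of s3_mem x3_mem (by decide +kernel)
theorem S1_conj : IsConj S1 W0 := isConj_W0_of_tr order_S1 tr_s1
theorem S3_conj : IsConj S3 W0 := isConj_W0_of_tr order_S3 tr_s3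

theorem pow_four_of {i s : G} (h : i * i = s) (hs : s * s = 1) : i ^ 4 = 1 := by
  rw [show (4 : ℕ) = 2 + 2 from rfl, pow_add, pow_two, h, hs]

theorem I1_four : I1 ^ 4 = 1 := pow_four_of I1_sq S1_sq
theorem I3_four : I3 ^ 4 = 1 := pow_four_of I3_sq S3_sq

/-- `T1 x s` gives `x ~ X3` -/
theorem T1.isConj {x s : G} (h3 : orderOf x = 3) (h : T1 x s) : IsConj x X3 := by
  obtain ⟨c, hc, -⟩ := h.conj h3 order_X3 t1_x3
  exact isConj_iff.2 ⟨c, hc⟩

/-- `T2 x s` gives `x ~ X1` -/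
theorem T2.isConj {x s : G} (h3 : orderOf x = 3) (h : T2 x s) : IsConj x X1 := by
  obtain ⟨c, hc, -⟩ := h.conj h3 order_X1 t2_x1
  exact isConj_iff.2 ⟨c, hc⟩

/-! ### order 6 -/

/-- **6B** -/
theorem card6B : Nat.card ↥(centralizer ({X1 * S1} : Set G)) = 576 := by
  rw [cent_mul X1_cube (by rw [show (4 : ℕ) = 2 * 2 from rfl, pow_mul, pow_two S1, S1_sq, one_pow]) S1X1,
    card_T2 main order_X1 t2_x1]

/-- **6C** -/
theorem card6C : Nat.card ↥(centralizer ({X3 * S3} : Set G)) = 360 := by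
  rw [cent_mul X3_cube (by rw [show (4 : ℕ) = 2 * 2 from rfl, pow_mul, pow_two S3, S3_sq, one_pow]) S3X3,
    card_T1 order_X3 t1_x3]

theorem order_mul3 {x i : G} {n : ℕ} (h3 : orderOf x = 3) (hn : orderOf i = n) (hc : Nat.Coprime 3 n)
    (h : i * x = x * i) : orderOf (x * i) = 3 * n := by
  rw [(show Commute x i from h.symm).orderOf_mul_eq_mul_orderOf_of_coprime (by rw [h3, hn]; exact hc), h3, hn]

theorem order6B : orderOf (X1 * S1) = 6 := order_mul3 order_X1 order_S1 (by norm_num) S1X1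
theorem order6C : orderOf (X3 * S3) = 6 := order_mul3 order_X3 order_S3 (by norm_num) S3X3

theorem cube_of {x s : G} (hx : x ^ 3 = 1) (hs : s * s = 1) (h : s * x = x * s) : (x * s) ^ 3 = s := by
  rw [(show Commute x s from h.symm).mul_pow, hx, one_mul, pow_succ, pow_two, hs, one_mul]

theorem cube6B : (X1 * S1) ^ 3 = S1 := cube_of X1_cube S1_sq S1X1
theorem cube6C : (X3 * S3) ^ 3 = S3 := cube_of X3_cube S3_sq S3X3
theorem four6B : (X1 * S1) ^ 4 = X1 :=
  pow_four X1_cube (by rw [show (4 : ℕ) = 2 * 2 from rfl, pow_mul, pow_two S1, S1_sq, one_pow]) S1X1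
theorem four6C : (X3 * S3) ^ 4 = X3 :=
  pow_four X3_cube (by rw [show (4 : ℕ) = 2 * 2 from rfl, pow_mul, pow_two S3, S3_sq, one_pow]) S3X3

/-- the decomposition of an element of order 6 -/
theorem split6 {g : G} (h6 : orderOf g = 6) : orderOf (g ^ 4) = 3 ∧ orderOf (g ^ 3) = 2 ∧ g ^ 4 * g ^ 3 = g ∧
    g ^ 4 * g ^ 3 = g ^ 3 * g ^ 4 := by
  have h : g ^ 6 = 1 := by rw [← h6, pow_orderOf_eq_one]
  refine ⟨?_, ?_, ?_, ?_⟩
  · rw [orderOf_pow, h6]; norm_num
  · rw [orderOf_pow, h6]; norm_num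
  · rw [← pow_add, show 4 + 3 = 6 + 1 from rfl, pow_add, h, one_mul, pow_one]
  · rw [← pow_add, ← pow_add]

/-- **the elements of order 6 above `W0`** -/
theorem six {g : G} (h6 : orderOf g = 6) (hW : IsConj (g ^ 3) W0) :
    (IsConj (X1 * S1) g ∧ IsConj (g ^ 4) X1) ∨ (IsConj (X3 * S3) g ∧ IsConj (g ^ 4) X3) := by
  obtain ⟨h3, h2, hg, hc⟩ := split6 h6
  rcases T1_or_T2 h3 hW hc with h | h
  · right
    refine ⟨?_, T1.isConj h3 h⟩
    obtain ⟨c, hc, hcs⟩ := t1_x3.conj order_X3 h3 h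
    refine isConj_iff.2 ⟨c, ?_⟩
    rw [← hg, ← hc, ← hcs]
    group
  · left
    refine ⟨?_, T2.isConj h3 h⟩
    obtain ⟨c, hc, hcs⟩ := t2_x1.conj order_X1 h3 h
    refine isConj_iff.2 ⟨c, ?_⟩
    rw [← hg, ← hc, ← hcs]
    group

theorem iff6B (g : G) : (orderOf g = 6 ∧ IsConj (g ^ 3) W0 ∧ IsConj (g ^ 4) X1) ↔ IsConj (X1 * S1) g := by
  constructor
  · rintro ⟨h6, hW, h4⟩
    rcases six h6 hW with ⟨h, -⟩ | ⟨-, h⟩
    · exact h
    · exact absurd (h4.symm.trans h) not_conj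
  · intro h
    refine ⟨by rw [← order_conj' h, order6B], ?_, ?_⟩
    · have h1 := IsConj.pow_two_three h 3
      rw [cube6B] at h1
      exact h1.symm.trans S1_conj
    · have h1 := IsConj.pow_two_three h 4
      rw [four6B] at h1
      exact h1.symm

theorem iff6C (g : G) : (orderOf g = 6 ∧ IsConj (g ^ 3) W0 ∧ IsConj (g ^ 4) X3) ↔ IsConj (X3 * S3) g := by
  constructor
  · rintro ⟨h6, hW, h4⟩
    rcases six h6 hW with ⟨-, h⟩ | ⟨h, -⟩
    · exact absurd (h.symm.trans h4) not_conj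
    · exact h
  · intro h
    refine ⟨by rw [← order_conj' h, order6C], ?_, ?_⟩
    · have h1 := IsConj.pow_two_three h 3
      rw [cube6C] at h1
      exact h1.symm.trans S3_conj
    · have h1 := IsConj.pow_two_three h 4
      rw [four6C] at h1
      exact h1.symm

theorem n6B : 576 * Nat.card {g : G // orderOf g = 6 ∧ IsConj (g ^ 3) W0 ∧ IsConj (g ^ 4) X1} = Nat.card G := by
  have h := card_of_iff iff6B
  rwa [card6B] at h

theorem n6C : 360 * Nat.card {g : G // orderOf g = 6 ∧ IsConj (g ^ 3) W0 ∧ IsConj (g ^ 4) X3} = Nat.card G := by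
  have h := card_of_iff iff6C
  rwa [card6C] at h

/-! ### order 12 -/

/-- **12B** -/
theorem card12B : Nat.card ↥(centralizer ({X1 * I1} : Set G)) = 48 := by
  rw [cent_mul X1_cube I1_four I1X1, card_T2_root main order_X1 t2_x1 I1X1 I1_sq I1_four]

theorem order_I1 : orderOf I1 = 4 := by
  have h : orderOf I1 = 2 ^ (1 + 1) := by
    have : Fact (Nat.Prime 2) := ⟨Nat.prime_two⟩
    apply orderOf_eq_prime_pow
    · rw [pow_one, pow_two, I1_sq]
      intro h
      have := order_S1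
      rw [h, orderOf_one] at this
      norm_num at this
    · exact I1_four
  exact h

theorem order_I3 : orderOf I3 = 4 := by
  have h : orderOf I3 = 2 ^ (1 + 1) := by
    have : Fact (Nat.Prime 2) := ⟨Nat.prime_two⟩
    apply orderOf_eq_prime_pow
    · rw [pow_one, pow_two, I3_sq]
      intro h
      have := order_S3
      rw [h, orderOf_one] at this
      norm_num at this
    · exact I3_four
  exact h

theorem order12B : orderOf (X1 * I1) = 12 := order_mul3 order_X1 order_I1 (by norm_num) I1X1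
theorem order12C : orderOf (X3 * I3) = 12 := order_mul3 order_X3 order_I3 (by norm_num) I3X3

/-- the centralizer of `X3 * I3` -/
theorem cent12C : centralizer ({X3 * I3} : Set G) = zpowers (X3 * I3) :=
  T1.cent_eq order_X3 t1_x3 I3X3 I3_sq I3_four

/-- **12C** -/
theorem card12C : Nat.card ↥(centralizer ({X3 * I3} : Set G)) = 12 := by
  rw [cent12C, Nat.card_zpowers, order12C]

/-- the decomposition of an element of order 12 -/
theorem split12 {g : G} (h12 : orderOf g = 12) : orderOf (g ^ 4) = 3 ∧ g ^ 9 * g ^ 9 = g ^ 6 ∧ g ^ 4 * g ^ 9 = g ∧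
    g ^ 9 * g ^ 4 = g ^ 4 * g ^ 9 ∧ (g ^ 9) ^ 4 = 1 ∧ g ^ 4 * g ^ 6 = g ^ 6 * g ^ 4 := by
  have h : g ^ 12 = 1 := by rw [← h12, pow_orderOf_eq_one]
  refine ⟨?_, ?_, ?_, ?_, ?_, ?_⟩
  · rw [orderOf_pow, h12]; norm_num
  · rw [← pow_add, show 9 + 9 = 12 + 6 from rfl, pow_add, h, one_mul]
  · rw [← pow_add, show 4 + 9 = 12 + 1 from rfl, pow_add, h, one_mul, pow_one]
  · rw [← pow_add, ← pow_add]
  · rw [← pow_mul, show 9 * 4 = 12 * 3 from rfl, pow_mul, h, one_pow]
  · rw [← pow_add, ← pow_add]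

/-- **the elements of order 12 above `W0`** -/
theorem twelve {g : G} (h12 : orderOf g = 12) (hW : IsConj (g ^ 6) W0) :
    (IsConj (X1 * I1) g ∧ IsConj (g ^ 4) X1) ∨ (IsConj (X3 * I3) g ∧ IsConj (g ^ 4) X3) := by
  obtain ⟨h3, hi, hg, hc, hi4, hc6⟩ := split12 h12
  rcases T1_or_T2 h3 hW hc6 with h | h
  · right
    refine ⟨?_, T1.isConj h3 h⟩
    obtain ⟨c, hc, hcs⟩ := T1.root_conj order_X3 h3 t1_x3 h I3X3 hc I3_sq hi
    refine isConj_iff.2 ⟨c, ?_⟩
    have e : c * (X3 * I3) * c⁻¹ = (c * X3 * c⁻¹) * (c * I3 * c⁻¹) := by group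
    rw [e, hc, hcs, hg]
  · left
    refine ⟨?_, T2.isConj h3 h⟩
    obtain ⟨c, hc, hcs⟩ := T2.root_conj main order_X1 h3 t2_x1 h I1X1 hc I1_sq hi I1_four hi4
    refine isConj_iff.2 ⟨c, ?_⟩
    have e : c * (X1 * I1) * c⁻¹ = (c * X1 * c⁻¹) * (c * I1 * c⁻¹) := by group
    rw [e, hc, hcs, hg]

theorem pow_six {x i s : G} (hx : x ^ 3 = 1) (hs : s * s = 1) (hi : i * i = s) (h : i * x = x * i) :
    (x * i) ^ 6 = s := by
  rw [(show Commute x i from h.symm).mul_pow, show x ^ 6 = (x ^ 3) ^ 2 by rw [← pow_mul], hx, one_pow, one_mul,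
    show i ^ 6 = i ^ 4 * (i * i) by rw [← pow_two, ← pow_add], pow_four_of hi hs, one_mul, hi]

theorem six12B : (X1 * I1) ^ 6 = S1 := pow_six X1_cube S1_sq I1_sq I1X1
theorem six12C : (X3 * I3) ^ 6 = S3 := pow_six X3_cube S3_sq I3_sq I3X3
theorem four12B : (X1 * I1) ^ 4 = X1 := pow_four X1_cube I1_four I1X1
theorem four12C : (X3 * I3) ^ 4 = X3 := pow_four X3_cube I3_four I3X3

theorem iff12B (g : G) : (orderOf g = 12 ∧ IsConj (g ^ 6) W0 ∧ IsConj (g ^ 4) X1) ↔ IsConj (X1 * I1) g := by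
  constructor
  · rintro ⟨h6, hW, h4⟩
    rcases twelve h6 hW with ⟨h, -⟩ | ⟨-, h⟩
    · exact h
    · exact absurd (h4.symm.trans h) not_conj
  · intro h
    refine ⟨by rw [← order_conj' h, order12B], ?_, ?_⟩
    · have h1 := IsConj.pow_two_three h 6
      rw [six12B] at h1
      exact h1.symm.trans S1_conj
    · have h1 := IsConj.pow_two_three h 4
      rw [four12B] at h1
      exact h1.symm

theorem iff12C (g : G) : (orderOf g = 12 ∧ IsConj (g ^ 6) W0 ∧ IsConj (g ^ 4) X3) ↔ IsConj (X3 * I3) g := by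
  constructor
  · rintro ⟨h6, hW, h4⟩
    rcases twelve h6 hW with ⟨-, h⟩ | ⟨h, -⟩
    · exact absurd (h.symm.trans h4) not_conj
    · exact h
  · intro h
    refine ⟨by rw [← order_conj' h, order12C], ?_, ?_⟩
    · have h1 := IsConj.pow_two_three h 6
      rw [six12C] at h1
      exact h1.symm.trans S3_conj
    · have h1 := IsConj.pow_two_three h 4
      rw [four12C] at h1
      exact h1.symm

theorem n12B : 48 * Nat.card {g : G // orderOf g = 12 ∧ IsConj (g ^ 6) W0 ∧ IsConj (g ^ 4) X1} = Nat.card G := by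
  have h := card_of_iff iff12B
  rwa [card12B] at h

theorem n12C : 12 * Nat.card {g : G // orderOf g = 12 ∧ IsConj (g ^ 6) W0 ∧ IsConj (g ^ 4) X3} = Nat.card G := by
  have h := card_of_iff iff12C
  rwa [card12C] at h

/-- the square of an element of order 12 above `W0` -/
theorem sq12 {g : G} (h12 : orderOf g = 12) : orderOf (g ^ 2) = 6 ∧ (g ^ 2) ^ 3 = g ^ 6 ∧ (g ^ 2) ^ 4 = (g ^ 4)⁻¹ := by
  have h : g ^ 12 = 1 := by rw [← h12, pow_orderOf_eq_one]
  refine ⟨?_, ?_, ?_⟩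
  · rw [orderOf_pow, h12]; norm_num
  · rw [← pow_mul]
  · rw [← pow_mul, eq_inv_iff_mul_eq_one, ← pow_add, show 2 * 4 + 4 = 12 from rfl, h]

/-! ### the inverses -/

theorem inv_X1 : IsConj X1⁻¹ X1 := by
  have h3 : orderOf X1⁻¹ = 3 := by rw [orderOf_inv, order_X1]
  have hc : X1⁻¹ * S1 = S1 * X1⁻¹ := (show Commute X1 S1 from S1X1.symm).inv_left.eq
  rcases T1_or_T2 h3 S1_conj hc with h | h
  · exfalso
    have h1 := T1.isConj h3 h
    -- `X1⁻¹ ~ X3` has trace 29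
    have hm : x1⁻¹ ∈ alternatingGroup (Fin 12) := inv_mem x1_mem
    have e : X1⁻¹ = Φ ⟨x1⁻¹, hm⟩ := by
      rw [X1, ← map_inv]
      rfl
    have h2 : IsConj X1⁻¹ X1 := by
      have hz : cy [9, 10] * cy [0, 1] ∈ alternatingGroup (Fin 12) := by
        rw [mem_alternatingGroup]; decide +kernel
      refine (isConj_iff.2 ⟨Φ ⟨_, hz⟩, ?_⟩ : IsConj X1⁻¹ X1)
      rw [e, X1, ← map_inv, ← map_mul, ← map_mul]
      refine congrArg _ (Subtype.ext ?_)
      change cy [9, 10] * cy [0, 1] * x1⁻¹ * (cy [9, 10] * cy [0, 1])⁻¹ = x1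
      decide +kernel
    exact not_conj (h2.symm.trans h1)
  · exact T2.isConj h3 h

theorem inv_X3 : IsConj X3⁻¹ X3 := by
  have h3 : orderOf X3⁻¹ = 3 := by rw [orderOf_inv, order_X3]
  have hc : X3⁻¹ * S3 = S3 * X3⁻¹ := (show Commute X3 S3 from S3X3.symm).inv_left.eq
  rcases T1_or_T2 h3 S3_conj hc with h | h
  · exact T1.isConj h3 h
  · exfalso
    have h1 := T2.isConj h3 h
    -- `X3⁻¹ ~ X1`
    obtain ⟨c, hc⟩ := isConj_iff.1 h1
    have h2 : IsConj X3 X1⁻¹ := isConj_iff.2 ⟨c, by rw [← hc]; group⟩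
    exact not_conj ((h2.trans inv_X1).symm)

/-- the square of 12B is 6B -/
theorem sq12B {g : G} (h : IsConj (X1 * I1) g) : IsConj (X1 * S1) (g ^ 2) := by
  obtain ⟨h12, hW, h4⟩ := (iff12B g).2 h
  obtain ⟨h6, h3, h8⟩ := sq12 h12
  rw [← iff6B]
  refine ⟨h6, by rw [h3]; exact hW, ?_⟩
  rw [h8]
  obtain ⟨c, hc⟩ := isConj_iff.1 h4
  exact (isConj_iff.2 ⟨c, by rw [← hc]; group⟩ : IsConj (g ^ 4)⁻¹ X1⁻¹).trans inv_X1

/-- the square of 12C is 6C -/
theorem sq12C {g : G} (h : IsConj (X3 * I3) g) : IsConj (X3 * S3) (g ^ 2) := by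
  obtain ⟨h12, hW, h4⟩ := (iff12C g).2 h
  obtain ⟨h6, h3, h8⟩ := sq12 h12
  rw [← iff6C]
  refine ⟨h6, by rw [h3]; exact hW, ?_⟩
  rw [h8]
  obtain ⟨c, hc⟩ := isConj_iff.1 h4
  exact (isConj_iff.2 ⟨c, by rw [← hc]; group⟩ : IsConj (g ^ 4)⁻¹ X3⁻¹).trans inv_X3

/-! ### no elements of order 24, 18 -/

/-- **there is no element of order 24 above `W0`** -/
theorem not24 {g : G} (h24 : orderOf g = 24) (hW : IsConj (g ^ 12) W0) : False := by
  have h : g ^ 24 = 1 := by rw [← h24, pow_orderOf_eq_one]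
  have h3 : orderOf (g ^ 16) = 3 := by rw [orderOf_pow, h24]; norm_num
  have hc : g ^ 16 * g ^ 12 = g ^ 12 * g ^ 16 := by rw [← pow_add, ← pow_add]
  have hx : g ^ 9 * g ^ 16 = g ^ 16 * g ^ 9 := by rw [← pow_add, ← pow_add]
  have h4 : (g ^ 9) ^ 4 = g ^ 12 := by
    rw [← pow_mul, show 9 * 4 = 24 + 12 from rfl, pow_add, h, one_mul]
  have hs : g ^ 12 * g ^ 12 = 1 := by rw [← pow_add, show 12 + 12 = 24 from rfl, h]
  rcases T1_or_T2 h3 hW hc with hT | hT
  · exact T1.not_eight h3 hT hx h4 hs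
  · have h8 : (g ^ 9) ^ 8 = 1 := by rw [← pow_mul, show 9 * 8 = 24 * 3 from rfl, pow_mul, h, one_pow]
    have h9 := T2.not_eight main h3 hT hx h8
    rw [h4] at h9
    have h10 : orderOf g ∣ 12 := orderOf_dvd_of_pow_eq_one h9
    rw [h24] at h10
    norm_num at h10

/-- **no element of even order divisible by 9** -/
theorem not9 {g : G} (h2 : 2 ∣ orderOf g) : ¬ 9 ∣ orderOf g := by
  intro h9
  have hpos := orderOf_pos g
  have ht : orderOf (g ^ (orderOf g / 2)) = 2 := orderOf_pow_orderOf_div hpos.ne' h2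
  have hy : orderOf (g ^ (orderOf g / 9)) = 9 := orderOf_pow_orderOf_div hpos.ne' h9
  have h1 := H569.HNThree.exp_three (y := g ^ (orderOf g / 9)) (t := g ^ (orderOf g / 2))
    ⟨2, by
      have h := pow_orderOf_eq_one (g ^ (orderOf g / 9))
      rw [hy] at h
      exact h⟩ ht (by rw [← pow_add, ← pow_add, add_comm])
  have h3 : orderOf (g ^ (orderOf g / 9)) ∣ 3 := orderOf_dvd_of_pow_eq_one h1
  rw [hy] at h3
  norm_num at h3

end Cfsg.Agent.H280.HNF
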