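import Cfsg.Agent.H569.HNThree

/-!
# Pairs `(x, s)` of the first type in HN (helper280)

`x` of order 3 in `PP = C(W0)` with `ρ x = φA c0`.

* `card_CP` : `|C(x) ∩ C(W0)| = 360`;
* `conj_root` : the square roots of `W0` commuting with `x` are conjugate under `C(x) ∩ C(W0)`;
* `cent_root` : `C(x) ∩ C(i) = ⟨x, i⟩`, `i ^ 2 = W0`.
-/

set_option autoImplicit false
set_option linter.unusedSectionVars false

namespace Cfsg.Agent.H280.HNF

open Cfsg.Agent.HN Cfsg.Agent.HN.Pres Cfsg.Agent.HN.P1408 Cfsg.Agent.HN.H0Basic Cfsg.Agent.HN.XMat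
open Cfsg.Agent.HN.XStruct Cfsg.Agent.HN.XWords Cfsg.Agent.HN.XQuot Cfsg.Agent.HN.XInst
open Cfsg.Agent
open Cfsg.Agent.KFacts.HN
open Cfsg.Agent.CpAutHN.LqFacts
open Cfsg.Agent.CpAutHN.PPFacts
open Cfsg.Agent.H569.HNThree (mem_ker_W0)
open Subgroup

/-- the elements of `R` commuting with `x` -/
theorem ker_T1 {x v : PP} (hx : ρ x = φA c0) (hv : v ∈ ρ.ker) (h : v * x = x * v) :
    (v : Cfsg.Spor.HN) = 1 ∨ (v : Cfsg.Spor.HN) = W0 := by
  obtain ⟨m, hm, c, hvm⟩ := mem_ker_iff.1 hv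
  have h1 := fix_A hm (app_eq_of_comm (hx.trans φA_c0) hm hvm h)
  rw [h1, show r Q 0 = 1 from Bas.r_zero, one_mul] at hvm
  rw [hvm]
  exact sgn0_cases c

/-- `W0` in `PP` -/
def w0 : PP := ⟨W0, mem_PP.2 rfl⟩

theorem w0_comm (v : PP) : v * w0 = w0 * v := Subtype.ext (mem_PP.1 v.2)

theorem w0_sq : w0 * w0 = 1 := Subtype.ext W0_sq

theorem w0_ne : w0 ≠ 1 := fun h => W0_ne (congrArg Subtype.val h)

theorem ρ_w0 : ρ w0 = 1 := MonoidHom.mem_ker.1 (mem_ker_W0 rfl)

theorem ker_T1' {x v : PP} (hx : ρ x = φA c0) (hv : ρ v = 1) (h : v * x = x * v) : v = 1 ∨ v = w0 := by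
  rcases ker_T1 hx hv h with h1 | h1
  · exact Or.inl (Subtype.ext h1)
  · exact Or.inr (Subtype.ext h1)

/-- the centralizer of `φA c0` -/
theorem cent_φA {z : Lq} (hc : z * φA c0 = φA c0 * z) : ∃ k : ℕ, k < 3 ∧ ∃ b : A5, z = φA (c0 ^ k) * φB b := by
  obtain ⟨a, b, rfl⟩ := mem_LL.1 (mem_LL_of_comm c0_ne hc)
  have h4 : a * c0 = c0 * a := by
    apply φA_inj
    rw [map_mul, map_mul]
    have h := comm_AB c0 b
    apply mul_right_cancel (b := φB b)
    calc φA a * φA c0 * φB b = φA a * (φA c0 * φB b) := by group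
      _ = φA a * φB b * φA c0 := by rw [h]; group
      _ = φA c0 * (φA a * φB b) := hc
      _ = φA c0 * φA a * φB b := by group
  rcases cent_c0 h4 with h | h | h
  · exact ⟨0, by norm_num, b, by rw [h, pow_zero]⟩
  · exact ⟨1, by norm_num, b, by rw [h, pow_one]⟩
  · exact ⟨2, by norm_num, b, by rw [h, pow_two]⟩

theorem pow_AB (k : ℕ) (b : A5) : φA (c0 ^ k) * φB b * φA c0 = φA c0 * (φA (c0 ^ k) * φB b) := by
  have h := comm_AB c0 b
  have h2 : φA (c0 ^ k) * φA c0 = φA c0 * φA (c0 ^ k) := by rw [← map_mul, ← map_mul, pow_mul_comm']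
  calc φA (c0 ^ k) * φB b * φA c0 = φA (c0 ^ k) * (φB b * φA c0) := by group
    _ = φA (c0 ^ k) * φA c0 * φB b := by rw [← h]; group
    _ = _ := by rw [h2]; group

/-- the order of the centralizer of `φA c0` -/
theorem card_cent_φA : Nat.card ↥(centralizer ({φA c0} : Set Lq)) = 180 := by
  have h60 : Nat.card A5 = 60 := by
    rw [nat_card_alternatingGroup, Nat.card_eq_fintype_card, Fintype.card_fin]; decide
  have h180 : Nat.card (Fin 3 × A5) = 180 := by
    rw [Nat.card_prod, h60, Nat.card_eq_fintype_card, Fintype.card_fin]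
  rw [← h180]
  symm
  refine Nat.card_congr (Equiv.ofBijective (fun u : Fin 3 × A5 => (⟨φA (c0 ^ (u.1 : ℕ)) * φB u.2,
    mem_centralizer_singleton_iff.2 (pow_AB _ _)⟩ : ↥(centralizer ({φA c0} : Set Lq)))) ⟨?_, ?_⟩)
  · rintro ⟨i, a⟩ ⟨j, b⟩ h
    obtain ⟨h1, h2⟩ := φ2_inj (congrArg Subtype.val h)
    have h3 : ∀ i j : Fin 3, (c0 : A5) ^ (i : ℕ) = c0 ^ (j : ℕ) → i = j := by
      intro i j hij
      have ho : orderOf c0 = 3 := orderOf_eq_prime c0_cube c0_ne
      have h4 := (pow_inj_mod.1 hij)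
      rw [ho, Nat.mod_eq_of_lt i.2, Nat.mod_eq_of_lt j.2] at h4
      exact Fin.ext h4
    exact Prod.ext (h3 _ _ h1) h2
  · rintro ⟨z, hz⟩
    obtain ⟨k, hk, b, rfl⟩ := cent_φA (mem_centralizer_singleton_iff.1 hz)
    exact ⟨(⟨k, hk⟩, b), rfl⟩

variable [Finite Cfsg.Spor.HN]

/-- lifts of elements commuting with `φA c0` -/
theorem exists_lift {x : PP} (h3 : orderOf x = 3) (hx : ρ x = φA c0) {z : Lq} (hz : z * φA c0 = φA c0 * z) :
    ∃ v : PP, v * x = x * v ∧ ρ v = z := by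
  obtain ⟨w, rfl⟩ := ρ_surj z
  obtain ⟨q, hq, hqw⟩ := CpAutTh.RankOne.exists_comm Nat.prime_two Nat.prime_three (by norm_num) ρ isPGroup_ker
    (g := w) h3 (by rw [hx, hz])
  exact ⟨q * w, hqw, by rw [map_mul, (MonoidHom.mem_ker).1 hq, one_mul]⟩

/-- **`|C(x) ∩ C(W0)| = 360`** -/
theorem card_CP {x : PP} (h3 : orderOf x = 3) (hx : ρ x = φA c0) : Nat.card ↥(CP x) = 360 := by
  let f : ↥(CP x) →* Lq := ρ.comp (CP x).subtype
  have hmem : ∀ v : ↥(CP x), (v : PP) * x = x * v := fun v => mem_centralizer_singleton_iff.1 v.2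
  have h1 : Nat.card ↥f.ker = 2 := by
    have hw : w0 ∈ CP x := mem_centralizer_singleton_iff.2 (w0_comm x).symm
    have e : f.ker = zpowers (⟨w0, hw⟩ : ↥(CP x)) := by
      apply le_antisymm
      · intro v hv
        rcases ker_T1' hx (v := v) hv (hmem v) with h | h
        · have : v = 1 := Subtype.ext h
          rw [this]; exact one_mem _
        · have : v = ⟨w0, hw⟩ := Subtype.ext h
          rw [this]; exact mem_zpowers _
      · rw [zpowers_le]
        exact ρ_w0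
    rw [e, Nat.card_zpowers]
    apply orderOf_eq_prime
    · apply Subtype.ext
      rw [pow_two]
      exact w0_sq
    · intro h
      exact w0_ne (congrArg Subtype.val h)
  have h2 : f.range = centralizer ({φA c0} : Set Lq) := by
    apply le_antisymm
    · rintro _ ⟨v, rfl⟩
      rw [mem_centralizer_singleton_iff]
      change ρ (v : PP) * φA c0 = φA c0 * ρ (v : PP)
      rw [← hx, ← map_mul, hmem, map_mul]
    · intro z hz
      obtain ⟨v, hv, hvz⟩ := exists_lift h3 hx (mem_centralizer_singleton_iff.1 hz)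
      exact ⟨⟨v, mem_centralizer_singleton_iff.2 hv⟩, hvz⟩
  have h4 : Nat.card ↥(CP x) = Nat.card ↥f.ker * Nat.card ↥f.range := by
    rw [← f.ker.card_mul_index, Subgroup.index_ker]
  rw [h4, h1, h2, card_cent_φA]

/-- the image of a square root of `W0` -/
theorem image_root {x v : PP} (hx : ρ x = φA c0) (hv : v * x = x * v) (h : v * v = w0) :
    ∃ b : A5, b * b = 1 ∧ b ≠ 1 ∧ ρ v = φB b := by
  obtain ⟨b, hb⟩ := two_comm (z := ρ v) (by rw [← map_mul, h, ρ_w0]) (by rw [← hx, ← map_mul, hv, map_mul])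
  refine ⟨b, ?_, ?_, hb⟩
  · apply φB_inj
    rw [map_mul, ← hb, ← map_mul, h, ρ_w0, map_one]
  · rintro rfl
    rw [map_one] at hb
    rcases ker_T1' hx hb hv with h1 | h1
    · rw [h1, one_mul] at h
      exact w0_ne h.symm
    · rw [h1, w0_sq] at h
      exact w0_ne h.symm

theorem sq_root {x v : PP} (hx : ρ x = φA c0) (hv : v * x = x * v) {b : A5} (hb : b * b = 1) (hb1 : b ≠ 1)
    (h : ρ v = φB b) : v * v = w0 := by
  have hv2 : v * v * x = x * (v * v) := by rw [mul_assoc, hv, ← mul_assoc, hv, mul_assoc]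
  rcases ker_T1' hx (v := v * v) (by rw [map_mul, h, ← map_mul, hb, map_one]) hv2 with h1 | h1
  · exfalso
    have h2 := only_W0 hx h1 hv
    have h3 : v = 1 ∨ v = w0 := h2.imp (fun h => Subtype.ext h) (fun h => Subtype.ext h)
    have h4 : ρ v = 1 := by
      rcases h3 with h3 | h3
      · rw [h3, map_one]
      · rw [h3, ρ_w0]
    rw [h4] at h
    exact hb1 (φB_inj (by rw [← h, map_one]))
  · exact h1

theorem not_comm {x i w : PP} (hx : ρ x = φA c0) (hi : i * x = x * i) (hw : w * x = x * w) {b b' : A5}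
    (hb : b * b = 1) (hb1 : b ≠ 1) (hb' : b' * b' = 1) (hb1' : b' ≠ 1) (hne : b ≠ b') (hc : b' * b = b * b')
    (h : ρ i = φB b) (h' : ρ w = φB b') : w * i ≠ i * w := by
  intro hwi
  have h1 := sq_root hx hi hb hb1 h
  have h2 := sq_root hx hw hb' hb1' h'
  have h3 : w * i * x = x * (w * i) := by rw [mul_assoc, hi, ← mul_assoc, hw, mul_assoc]
  have h4 : w * i * (w * i) = 1 := by
    calc w * i * (w * i) = w * (i * w) * i := by simp only [mul_assoc]
      _ = w * (w * i) * i := by rw [hwi]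
      _ = (w * w) * (i * i) := by simp only [mul_assoc]
      _ = 1 := by rw [h1, h2, w0_sq]
  have h5 : b' * b * (b' * b) = 1 := by
    calc b' * b * (b' * b) = b' * (b * b') * b := by simp only [mul_assoc]
      _ = b' * (b' * b) * b := by rw [hc]
      _ = (b' * b') * (b * b) := by simp only [mul_assoc]
      _ = 1 := by rw [hb, hb', one_mul]
  have h6 : b' * b ≠ 1 := by
    intro h6
    apply hne
    calc b = b' * b' * b := by rw [hb', one_mul]
      _ = b' := by rw [mul_assoc, h6, mul_one]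
  have h7 := sq_root hx h3 h5 h6 (by rw [map_mul, h, h', ← map_mul])
  rw [h4] at h7
  exact w0_ne h7.symm

theorem same_image {x i j : PP} (hx : ρ x = φA c0) (hi : i * x = x * i) (hj : j * x = x * j) (h : ρ i = ρ j) :
    j = i ∨ j = i * w0 := by
  have hji : i⁻¹ * j * x = x * (i⁻¹ * j) := by
    have h1 : i⁻¹ * x = x * i⁻¹ := (show Commute i x from hi).inv_left.eq
    rw [mul_assoc, hj, ← mul_assoc, h1, mul_assoc]
  rcases ker_T1' hx (v := i⁻¹ * j) (by rw [map_mul, map_inv, h, inv_mul_cancel]) hji with h1 | h1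
  · left
    rw [inv_mul_eq_one] at h1
    exact h1.symm
  · right
    rw [← h1, mul_inv_cancel_left]

theorem A5_conj : ∀ b b' : A5, b * b = 1 → b ≠ 1 → b' * b' = 1 → b' ≠ 1 → ∃ a : A5, a * b * a⁻¹ = b' := by
  decide +kernel

theorem A5_klein : ∀ b : A5, b * b = 1 → b ≠ 1 → ∃ b' : A5, b' * b' = 1 ∧ b' ≠ 1 ∧ b ≠ b' ∧ b' * b = b * b' := by
  decide +kernel

theorem A5_cent : ∀ b : A5, b * b = 1 → b ≠ 1 → ∀ b' : A5, b' * b = b * b' → b' * b' = 1 := by
  decide +kernel

/-- **the square roots of `W0` commuting with `x` are conjugate** -/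
theorem conj_root {x i j : PP} (h3 : orderOf x = 3) (hx : ρ x = φA c0) (hi : i * x = x * i) (hj : j * x = x * j)
    (hi2 : i * i = w0) (hj2 : j * j = w0) : ∃ v : PP, v * x = x * v ∧ v * i * v⁻¹ = j := by
  obtain ⟨b, hb, hb1, hρi⟩ := image_root hx hi hi2
  obtain ⟨b', hb', hb1', hρj⟩ := image_root hx hj hj2
  obtain ⟨a, ha⟩ := A5_conj b b' hb hb1 hb' hb1'
  have hcB : ∀ a : A5, φB a * φA c0 = φA c0 * φB a := fun a => (comm_AB c0 a).symm
  have hcc : ∀ {v k : PP}, v * x = x * v → k * x = x * k → v * k * v⁻¹ * x = x * (v * k * v⁻¹) := by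
    intro v k hv hk
    exact (((show Commute v x from hv).mul_left hk).mul_left (show Commute v x from hv).inv_left).eq
  obtain ⟨v, hv, hρv⟩ := exists_lift h3 hx (hcB a)
  rcases same_image hx (hcc hv hi) hj (by
    rw [map_mul, map_mul, map_inv, hρv, hρi, hρj, ← map_inv, ← map_mul, ← map_mul, ha]) with h | h
  · exact ⟨v, hv, h.symm⟩
  · obtain ⟨b'', hb'', hb1'', hne, hc⟩ := A5_klein b' hb' hb1'
    obtain ⟨w, hw, hρw⟩ := exists_lift h3 hx (hcB b'')
    have h5 : ρ (w * j * w⁻¹) = φB b' := by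
      rw [map_mul, map_mul, map_inv, hρw, hρj, ← map_mul, hc, map_mul, mul_inv_cancel_right]
    rcases same_image hx (hcc hw hj) hj (by rw [h5, hρj]) with h6 | h6
    · exfalso
      refine not_comm hx hj hw hb' hb1' hb'' hb1'' hne hc hρj hρw ?_
      exact (mul_inv_eq_iff_eq_mul.1 h6.symm)
    · refine ⟨w⁻¹ * v, ?_, ?_⟩
      · exact ((show Commute w x from hw).inv_left.mul_left hv).eq
      · -- `w j w⁻¹ = v i v⁻¹`
        have h7 : w * j * w⁻¹ = v * i * v⁻¹ := by
          apply mul_right_cancel (b := w0)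
          rw [← h6, ← h]
        calc w⁻¹ * v * i * (w⁻¹ * v)⁻¹ = w⁻¹ * (v * i * v⁻¹) * w := by group
          _ = j := by rw [← h7]; group

/-- **the centralizer of `x` and of a square root of `W0`** -/
theorem cent_root {x i v : PP} (hx : ρ x = φA c0) (hi : i * x = x * i) (hi2 : i * i = w0)
    (hv : v * x = x * v) (hvi : v * i = i * v) : ∃ k l : ℕ, v = x ^ k * i ^ l := by
  obtain ⟨b, hb, hb1, hρi⟩ := image_root hx hi hi2
  obtain ⟨k, hk, b', hρv⟩ := cent_φA (z := ρ v) (by rw [← hx, ← map_mul, hv, map_mul])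
  -- `v = x ^ k * u`
  obtain ⟨u, hu⟩ : ∃ u : PP, v = x ^ k * u := ⟨(x ^ k)⁻¹ * v, by rw [mul_inv_cancel_left]⟩
  have hcxk : Commute (x ^ k) x := (Commute.refl x).pow_left k
  have hcik : Commute (x ^ k) i := (show Commute x i from hi.symm).pow_left k
  have hux : u * x = x * u := by
    have h1 : u = (x ^ k)⁻¹ * v := by rw [hu, inv_mul_cancel_left]
    rw [h1]
    exact (hcxk.inv_left.mul_left hv).eq
  have hui : u * i = i * u := by
    have h1 : u = (x ^ k)⁻¹ * v := by rw [hu, inv_mul_cancel_left]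
    rw [h1]
    exact (hcik.inv_left.mul_left hvi).eq
  have hρu : ρ u = φB b' := by
    have h1 : ρ v = φA (c0 ^ k) * ρ u := by rw [hu, map_mul, map_pow, hx, map_pow]
    rw [hρv] at h1
    exact (mul_left_cancel h1).symm
  have hcb : b' * b = b * b' := by
    apply φB_inj
    rw [map_mul, map_mul, ← hρu, ← hρi, ← map_mul, ← map_mul, hui]
  have hb2 := A5_cent b hb hb1 b' hcb
  have key : ∃ l : ℕ, u = i ^ l := by
    by_cases hb'1 : b' = 1
    · rw [hb'1, map_one] at hρu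
      rcases ker_T1' hx hρu hux with h | h
      · exact ⟨0, by rw [h, pow_zero]⟩
      · exact ⟨2, by rw [h, pow_two, hi2]⟩
    · by_cases hbb : b = b'
      · rcases same_image hx hi hux (by rw [hρu, hρi, hbb]) with h | h
        · exact ⟨1, by rw [h, pow_one]⟩
        · exact ⟨3, by rw [h, pow_succ', pow_two, hi2]⟩
      · exact absurd hui (not_comm hx hi hux hb hb1 hb2 hb'1 hbb hcb hρi hρu)
  obtain ⟨l, hl⟩ := key
  exact ⟨k, l, by rw [hu, hl]⟩

end Cfsg.Agent.H280.HNF
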